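import Mathlib
import Groth.Agent.NormSeq.Val
import Groth.Agent.S2821

/-!
# Regular parameters in regular local rings of dimension two
-/

set_option autoImplicit false
set_option linter.style.haveILetI false
set_option linter.unusedSectionVars false
set_option maxHeartbeats 400000

universe u

open IsLocalRing

namespace Groth.Agent.Snc

variable {A : Type u} [CommRing A] [IsRegularLocalRing A] (hA : ringKrullDim A = 2)
include hA

theorem height_max : (maximalIdeal A).height = 2 := by
  have := IsLocalRing.maximalIdeal_height_eq_ringKrullDim (R := A)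
  rw [hA] at this
  exact WithBot.coe_eq_coe.1 (this.trans (by rfl))

theorem span_ne_max (a : A) : Ideal.span {a} ≠ maximalIdeal A := by
  intro h
  haveI : (maximalIdeal A).IsPrincipal := ⟨a, h.symm⟩
  have h2 := Ideal.height_le_one_of_isPrincipal_of_mem_minimalPrimes (maximalIdeal A) (maximalIdeal A)
    (by rw [Ideal.minimalPrimes_eq_subsingleton_self]; exact rfl)
  rw [height_max hA] at h2
  exact absurd h2 (by decide)

/-- A prime strictly between is principal. -/
theorem exists_gen {q : Ideal A} (hq : q.IsPrime) (h0 : q ≠ ⊥) (hm : q ≠ maximalIdeal A) :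
    ∃ h : A, Prime h ∧ q = Ideal.span {h} := by
  haveI := (S2821.result A).1
  haveI := (S2821.result A).2
  obtain ⟨π, hπq, hπ⟩ := hq.exists_mem_prime_of_ne_bot h0
  refine ⟨π, hπ, ?_⟩
  haveI := (Ideal.span_singleton_prime hπ.ne_zero).2 hπ
  by_contra hne
  have h1 : Ideal.span {π} < q := lt_of_le_of_ne ((Ideal.span_singleton_le_iff_mem _).2 hπq) (Ne.symm hne)
  have h2 : q < maximalIdeal A := lt_of_le_of_ne (le_maximalIdeal hq.ne_top) hm
  haveI := hq
  have e0 := Ideal.height_strict_mono_of_isPrime (show (⊥ : Ideal A) < Ideal.span {π} from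
    bot_lt_iff_ne_bot.2 fun h => hπ.ne_zero (Ideal.span_singleton_eq_bot.1 h))
  have e1 := Ideal.height_strict_mono_of_isPrime h1
  have e2 := Ideal.height_strict_mono_of_isPrime h2
  rw [height_max hA] at e2
  have h3 : (1 : ℕ∞) + 1 + 1 ≤ 2 := by
    refine le_trans ?_ (Order.add_one_le_of_lt e2)
    refine add_le_add ?_ le_rfl
    refine le_trans ?_ (Order.add_one_le_of_lt e1)
    refine add_le_add ?_ le_rfl
    exact le_trans (by simp) (Order.add_one_le_of_lt e0)
  exact absurd h3 (by decide)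

theorem eq_of_le {q q' : Ideal A} (hq : q.IsPrime) (h0 : q ≠ ⊥) (hq' : q'.IsPrime) (hm' : q' ≠ maximalIdeal A)
    (hle : q ≤ q') : q = q' := by
  haveI := (S2821.result A).1
  obtain ⟨h', hp', rfl⟩ := exists_gen hA hq' (fun h => h0 (le_bot_iff.1 (h ▸ hle))) hm'
  obtain ⟨h, hp, rfl⟩ := exists_gen hA hq h0 fun h => hm' ((maximalIdeal.isMaximal A).eq_of_le hq'.ne_top (h.symm.trans_le hle)).symm
  exact (Ideal.span_singleton_eq_span_singleton).2 ((hp'.associated_of_dvd hp (Ideal.span_singleton_le_span_singleton.1 hle)).symm)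

/-- A member of a regular system of parameters is prime. -/
theorem prime_of_system {x y : A} (hxy : Ideal.span {x, y} = maximalIdeal A) : Prime x := by
  haveI := (S2821.result A).1
  haveI := (S2821.result A).2
  have hxm : x ∈ maximalIdeal A := hxy ▸ Ideal.subset_span (by simp)
  have hsq : x ∉ maximalIdeal A ^ 2 := by
    intro hx
    refine span_ne_max hA y (le_antisymm ?_ ?_)
    · rw [← hxy]; exact Ideal.span_mono (by simp)
    · refine Submodule.le_of_le_smul_of_le_jacobson_bot (IsNoetherian.noetherian _) (maximalIdeal_le_jacobson _) ?_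
      refine hxy.ge.trans (Ideal.span_le.2 ?_)
      rintro a (rfl | rfl)
      · refine Submodule.mem_sup_right ?_
        rwa [smul_eq_mul, ← sq]
      · exact Submodule.mem_sup_left (Ideal.mem_span_singleton_self _)
  refine UniqueFactorizationMonoid.irreducible_iff_prime.1 ⟨(mem_maximalIdeal x).1 hxm, fun a b hab => ?_⟩
  by_contra! h
  exact hsq (hab ▸ sq (maximalIdeal A) ▸ Ideal.mul_mem_mul ((mem_maximalIdeal a).2 h.1) ((mem_maximalIdeal b).2 h.2))

theorem not_mem_span {x y : A} (hxy : Ideal.span {x, y} = maximalIdeal A) : y ∉ Ideal.span {x} := fun h =>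
  span_ne_max hA x (le_antisymm (hxy ▸ Ideal.span_mono (by simp)) (hxy.ge.trans (Ideal.span_le.2 (by
    rintro a (rfl | rfl)
    · exact Ideal.mem_span_singleton_self _
    · exact h))))

/-- Modulo one regular parameter every element is a power of the other. -/
theorem exists_unit_pow {x y : A} (hxy : Ideal.span {x, y} = maximalIdeal A) {a : A} (ha : a ∉ Ideal.span {x}) :
    ∃ (k : ℕ) (u : Aˣ), a - (u : A) * y ^ k ∈ Ideal.span {x} := by
  haveI := (S2821.result A).1
  let P : ℕ → Prop := fun k => a ∈ Ideal.span {x} ⊔ Ideal.span {y ^ k}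
  have hbad : ∃ k, ¬ P k := by
    by_contra! h
    haveI hp : (Ideal.span {x}).IsPrime := (Ideal.span_singleton_prime (prime_of_system hA hxy).ne_zero).2 (prime_of_system hA hxy)
    refine ha (Ideal.Quotient.eq_zero_iff_mem.1 ?_)
    haveI : Nontrivial (A ⧸ Ideal.span {x}) := Ideal.Quotient.nontrivial_iff.2 hp.ne_top
    haveI : IsLocalRing (A ⧸ Ideal.span {x}) := IsLocalRing.of_surjective' (Ideal.Quotient.mk _) Ideal.Quotient.mk_surjective
    have h1 : Ideal.Quotient.mk (Ideal.span {x}) a ∈ ⨅ k : ℕ, maximalIdeal (A ⧸ Ideal.span {x}) ^ k := by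
      refine Ideal.mem_iInf.2 fun k => ?_
      obtain ⟨u, hu, v, hv, huv⟩ := Submodule.mem_sup.1 (h k)
      rw [← huv, map_add, Ideal.Quotient.eq_zero_iff_mem.2 hu, zero_add]
      obtain ⟨c, rfl⟩ := Ideal.mem_span_singleton.1 hv
      rw [map_mul, map_pow]
      refine Ideal.mul_mem_right _ _ (Ideal.pow_mem_pow ((mem_maximalIdeal _).2 fun hu => ?_) k)
      obtain ⟨v', hv'⟩ := hu.exists_right_inv
      obtain ⟨v, rfl⟩ := Ideal.Quotient.mk_surjective v'
      rw [← map_mul, ← map_one (Ideal.Quotient.mk (Ideal.span {x})), Ideal.Quotient.eq] at hv'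
      refine (maximalIdeal.isMaximal A).ne_top ((Ideal.eq_top_iff_one _).2 ?_)
      have h1 : y * v ∈ maximalIdeal A := Ideal.mul_mem_right _ _ (hxy ▸ Ideal.subset_span (by simp))
      have h2 : y * v - 1 ∈ maximalIdeal A := hxy ▸ Ideal.span_mono (by simp) hv'
      simpa using sub_mem h1 h2
    rwa [Ideal.iInf_pow_eq_bot_of_isLocalRing _ (maximalIdeal.isMaximal _).ne_top, Ideal.mem_bot] at h1
  classical
  have h0 : P 0 := by simp [P]
  obtain ⟨k, hk⟩ : ∃ k, Nat.find hbad = k + 1 := Nat.exists_eq_succ_of_ne_zero fun h => Nat.find_spec hbad (h ▸ h0)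
  have hPk : P k := not_not.1 (Nat.find_min hbad (by omega))
  have hPk1 : ¬ P (k + 1) := hk ▸ Nat.find_spec hbad
  obtain ⟨u, hu, v, hv, huv⟩ := Submodule.mem_sup.1 hPk
  obtain ⟨c, rfl⟩ := Ideal.mem_span_singleton.1 hv
  have hc : IsUnit c := by
    by_contra hc
    refine hPk1 ?_
    have hcm : c ∈ Ideal.span {x, y} := hxy.symm ▸ (mem_maximalIdeal c).2 hc
    obtain ⟨r, s, rfl⟩ := Ideal.mem_span_pair.1 hcm
    refine Submodule.mem_sup.2 ⟨u + y ^ k * (r * x), Ideal.add_mem _ hu (Ideal.mem_span_singleton.2 ⟨y ^ k * r, by ring⟩),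
      y ^ (k + 1) * s, Ideal.mem_span_singleton.2 ⟨s, rfl⟩, ?_⟩
    rw [← huv]; ring
  obtain ⟨w, rfl⟩ := hc
  refine ⟨k, w, ?_⟩
  rw [← huv, show u + y ^ k * (w : A) - (w : A) * y ^ k = u by ring]
  exact hu

end Groth.Agent.Snc
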