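import Mathlib
import Groth.Agent.Snc.Basic

/-!
# Chains of quadratic transforms of regular surface rings and primes in them
-/

set_option autoImplicit false
set_option linter.style.haveILetI false
set_option linter.unusedSectionVars false
set_option maxHeartbeats 400000

universe u

open IsLocalRing

noncomputable section

namespace Groth.Agent.Snc

/-- An infinite sequence of quadratic transforms. -/
structure Tower (K : Type u) [Field K] where
  R : ℕ → Subring K
  mono : Monotone R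
  regular : ∀ n, IsRegularLocalRing (R n)
  dim : ∀ n, ringKrullDim (R n) = 2
  frac : ∀ (n : ℕ) (x : K), ∃ a b : R n, (b : K) ≠ 0 ∧ x * b = a
  γ : ∀ n, R (n + 1)
  map_max : ∀ n, haveI := regular n
    (maximalIdeal (R n)).map (Subring.inclusion (mono (Nat.le_add_right n 1))) = Ideal.span {γ n}
  exists_pair : ∀ n, haveI := regular (n + 1)
    ∃ h, Ideal.span {γ n, h} = maximalIdeal (R (n + 1))

attribute [instance] Tower.regular

variable {K : Type u} [Field K] (T : Tower K)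

namespace Tower

/-- The inclusions of the chain. -/
abbrev incl {n m : ℕ} (h : n ≤ m) : T.R n →+* T.R m := Subring.inclusion (T.mono h)

/-- Primes of height one. -/
def Pr (n : ℕ) (q : Ideal (T.R n)) : Prop := q.IsPrime ∧ q ≠ ⊥ ∧ q ≠ maximalIdeal (T.R n)

theorem gamma_pr (n : ℕ) : T.Pr (n + 1) (Ideal.span {T.γ n}) := by
  obtain ⟨h, hh⟩ := T.exists_pair n
  have hp := prime_of_system (T.dim (n + 1)) hh
  exact ⟨(Ideal.span_singleton_prime hp.ne_zero).2 hp, fun e => hp.ne_zero (Ideal.span_singleton_eq_bot.1 e),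
    span_ne_max (T.dim (n + 1)) _⟩

theorem gamma_mem (n : ℕ) : T.γ n ∈ maximalIdeal (T.R (n + 1)) := by
  obtain ⟨h, hh⟩ := T.exists_pair n
  exact hh ▸ Ideal.subset_span (by simp)

theorem incl_mem_max {n m : ℕ} (h : n ≤ m) : ∀ a ∈ maximalIdeal (T.R n), T.incl h a ∈ maximalIdeal (T.R m) := by
  induction h with
  | refl => exact fun a ha => ha
  | @step m h ih =>
    intro a ha
    have h1 := Ideal.mem_map_of_mem (T.incl (Nat.le_add_right m 1)) (ih a ha)
    rw [show (maximalIdeal (T.R m)).map (T.incl (Nat.le_add_right m 1)) = _ from T.map_max m] at h1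
    exact Ideal.span_le.2 (Set.singleton_subset_iff.2 (T.gamma_mem m)) h1

theorem comap_max {n m : ℕ} (h : n ≤ m) : (maximalIdeal (T.R m)).comap (T.incl h) = maximalIdeal (T.R n) :=
  ((maximalIdeal.isMaximal (T.R n)).eq_of_le (Ideal.comap_ne_top _ (maximalIdeal.isMaximal _).ne_top)
    fun a ha => T.incl_mem_max h a ha).symm

theorem exists_mem (t : K) : ∃ n, t ∈ T.R n ∨ t⁻¹ ∈ T.R n := by
  refine NormSeq.exists_mem t (T.dim 0).le (T.frac 0) T.mono (fun n x hx => ?_) fun n => ⟨T.γ n, T.gamma_mem n, fun a ha => ?_⟩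
  · haveI := (S2821.result (T.R n)).2
    haveI : IsFractionRing (T.R n) K := IsFractionRing.of_field _ _ fun z => by
      obtain ⟨a, b, hb, h⟩ := T.frac n z
      exact ⟨a, b, (eq_div_iff hb).2 h⟩
    obtain ⟨a, ha⟩ := IsIntegrallyClosed.isIntegral_iff.1 hx
    exact ha ▸ a.2
  · have h1 := Ideal.mem_map_of_mem (T.incl (Nat.le_add_right n 1)) ha
    rw [show (maximalIdeal (T.R n)).map (T.incl (Nat.le_add_right n 1)) = _ from T.map_max n] at h1
    obtain ⟨a', ha'⟩ := Ideal.mem_span_singleton.1 h1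
    exact ⟨a', congrArg Subtype.val ha'⟩

/-- Elements of a later ring are fractions with denominators off a given prime below. -/
theorem exists_rep {n m : ℕ} (h : n ≤ m) {q : Ideal (T.R n)} (hq : T.Pr n q) {q' : Ideal (T.R m)}
    (hc : q'.comap (T.incl h) = q) (a : T.R m) :
    ∃ r s : T.R n, s ∉ q ∧ a * T.incl h s = T.incl h r := by
  haveI := (S2821.result (T.R n)).1
  haveI := (S2821.result (T.R n)).2
  obtain ⟨r₀, s₀, hs₀, hrs⟩ := T.frac n a
  have hs₀' : s₀ ≠ 0 := fun e => hs₀ (by rw [e]; rfl)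
  obtain ⟨s, r, c, hcop, hcs, hcr⟩ := UniqueFactorizationMonoid.exists_reduced_factors s₀ hs₀' r₀
  have hc0 : (c : K) ≠ 0 := fun e => hs₀ (by
    rw [← hcs]; show (c : K) * (s : K) = 0
    rw [e, zero_mul])
  have he : a * T.incl h s = T.incl h r := by
    refine Subtype.ext (mul_left_cancel₀ hc0 ?_)
    show (c : K) * ((a : K) * (s : K)) = (c : K) * (r : K)
    rw [← hcs, ← hcr] at hrs
    change (a : K) * ((c : K) * (s : K)) = (c : K) * (r : K) at hrs
    rw [← hrs]; ring
  refine ⟨r, s, fun hsq => ?_, he⟩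
  obtain ⟨π, hπ, hqπ⟩ := exists_gen (T.dim n) hq.1 hq.2.1 hq.2.2
  have hrq : r ∈ q := by
    rw [← hc]
    show T.incl h r ∈ q'
    rw [← he]
    exact Ideal.mul_mem_left _ _ (show T.incl h s ∈ q' from (hc ▸ hsq : s ∈ q'.comap (T.incl h)))
  rw [hqπ] at hsq hrq
  exact hπ.not_unit (hcop (Ideal.mem_span_singleton.1 hsq) (Ideal.mem_span_singleton.1 hrq))

/-- A prime upstairs is determined by its contraction. -/
theorem eq_of_comap {n m : ℕ} (h : n ≤ m) {q : Ideal (T.R n)} (hq : T.Pr n q) {q' q'' : Ideal (T.R m)}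
    (h' : q'.IsPrime) (h'' : q''.IsPrime) (hc' : q'.comap (T.incl h) = q) (hc'' : q''.comap (T.incl h) = q) :
    q' = q'' := by
  have key : ∀ {p p' : Ideal (T.R m)}, p'.IsPrime → p.comap (T.incl h) = q → p'.comap (T.incl h) = q → p ≤ p' := by
    intro p p' hp' hc hc' a ha
    obtain ⟨r, s, hs, he⟩ := T.exists_rep h hq hc a
    have hr : r ∈ q := by
      rw [← hc]; show T.incl h r ∈ p
      rw [← he]; exact Ideal.mul_mem_right _ _ ha
    have h1 : a * T.incl h s ∈ p' := by
      rw [he]; exact (hc' ▸ hr : r ∈ p'.comap (T.incl h))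
    exact (hp'.mem_or_mem h1).resolve_right fun h2 => hs (hc' ▸ (h2 : s ∈ p'.comap (T.incl h)))
  exact le_antisymm (key h'' hc' hc'') (key h' hc'' hc')

theorem comap_ne_bot {n m : ℕ} (h : n ≤ m) {q' : Ideal (T.R m)} (h0 : q' ≠ ⊥) : q'.comap (T.incl h) ≠ ⊥ := by
  obtain ⟨a, ha, ha0⟩ := Submodule.exists_mem_ne_zero_of_ne_bot h0
  obtain ⟨r, s, hs, hrs⟩ := T.frac n a
  intro e
  have hr : r ∈ q'.comap (T.incl h) := by
    show T.incl h r ∈ q'
    rw [show T.incl h r = a * T.incl h s from Subtype.ext hrs.symm]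
    exact Ideal.mul_mem_right _ _ ha
  rw [e, Ideal.mem_bot] at hr
  rw [hr] at hrs
  exact ha0 (Subtype.ext ((mul_eq_zero.1 hrs).resolve_right hs))

/-- Intermediate contractions of height one primes. -/
theorem pr_between {n k m : ℕ} (h₁ : n ≤ k) (h₂ : k ≤ m) {q' : Ideal (T.R m)} (hq' : T.Pr m q')
    (hn : T.Pr n (q'.comap (T.incl (h₁.trans h₂)))) : T.Pr k (q'.comap (T.incl h₂)) := by
  haveI := hq'.1
  refine ⟨inferInstance, T.comap_ne_bot h₂ hq'.2.1, fun e => hn.2.2 ?_⟩
  rw [show q'.comap (T.incl (h₁.trans h₂)) = (q'.comap (T.incl h₂)).comap (T.incl h₁) from rfl, e, T.comap_max h₁]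

/-- Away from the exceptional prime the contraction has height one. -/
theorem pr_comap_of_ne {n : ℕ} {q' : Ideal (T.R (n + 1))} (hq' : T.Pr (n + 1) q') (hne : q' ≠ Ideal.span {T.γ n}) :
    T.Pr n (q'.comap (T.incl (Nat.le_add_right n 1))) := by
  haveI := hq'.1
  refine ⟨inferInstance, T.comap_ne_bot _ hq'.2.1, fun e => hne ?_⟩
  have h1 : Ideal.span {T.γ n} ≤ q' := by
    rw [← show (maximalIdeal (T.R n)).map (T.incl (Nat.le_add_right n 1)) = _ from T.map_max n]
    exact Ideal.map_le_iff_le_comap.2 e.ge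
  exact (eq_of_le (T.dim (n + 1)) (T.gamma_pr n).1 (T.gamma_pr n).2.1 hq'.1 hq'.2.2 h1).symm

/-- The lift of a regular parameter. -/
theorem regular_lift {n : ℕ} {h y : T.R n} (hy : Ideal.span {h, y} = maximalIdeal (T.R n))
    {q' : Ideal (T.R (n + 1))} (hq' : T.Pr (n + 1) q')
    (hc : q'.comap (T.incl (Nat.le_add_right n 1)) = Ideal.span {h}) :
    ∃ h' : T.R (n + 1), q' = Ideal.span {h'} ∧ Ideal.span {h', T.γ n} = maximalIdeal (T.R (n + 1)) ∧
      ∀ q'' : Ideal (T.R (n + 1)), T.Pr (n + 1) q'' → T.incl (Nat.le_add_right n 1) y ∈ q'' →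
        q'' = Ideal.span {T.γ n} := by
  set i := T.incl (Nat.le_add_right n 1) with hi
  haveI := (S2821.result (T.R (n + 1))).1
  haveI := (S2821.result (T.R (n + 1))).2
  have hh := prime_of_system (T.dim n) hy
  have hq : T.Pr n (Ideal.span {h}) := ⟨(Ideal.span_singleton_prime hh.ne_zero).2 hh,
    fun e => hh.ne_zero (Ideal.span_singleton_eq_bot.1 e), span_ne_max (T.dim n) h⟩
  obtain ⟨h', hh', hqh'⟩ := exists_gen (T.dim (n + 1)) hq'.1 hq'.2.1 hq'.2.2
  haveI := hq'.1
  have hγy : T.γ n ∈ Ideal.span {h', i y} := by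
    have h1 : (maximalIdeal (T.R n)).map i ≤ Ideal.span {h', i y} := by
      rw [← hy, Ideal.map_span, Set.image_pair, Ideal.span_le]
      rintro a (rfl | rfl)
      · have : i h ∈ q' := (hc.ge (Ideal.mem_span_singleton_self h) : h ∈ q'.comap i)
        rw [hqh'] at this
        exact Ideal.span_mono (by simp) this
      · exact Ideal.subset_span (by simp)
    refine h1 ?_
    rw [show (maximalIdeal (T.R n)).map i = _ from T.map_max n]
    exact Ideal.mem_span_singleton_self _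
  obtain ⟨y', hy'⟩ : T.γ n ∣ i y := by
    have h1 : i y ∈ (maximalIdeal (T.R n)).map i := Ideal.mem_map_of_mem _ (hy ▸ Ideal.subset_span (by simp))
    rw [show (maximalIdeal (T.R n)).map i = _ from T.map_max n] at h1
    exact Ideal.mem_span_singleton.1 h1
  have hγq : T.γ n ∉ q' := fun hg => hq.2.2 (by
    rw [← hc]
    refine ((maximalIdeal.isMaximal (T.R n)).eq_of_le (Ideal.comap_ne_top _ hq'.1.ne_top) ?_).symm
    refine Ideal.map_le_iff_le_comap.1 ?_
    rw [show (maximalIdeal (T.R n)).map i = _ from T.map_max n]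
    exact (Ideal.span_singleton_le_iff_mem _).2 hg)
  obtain ⟨c₁, c₂, hc₁₂⟩ := Ideal.mem_span_pair.1 hγy
  have hu : IsUnit y' := by
    by_contra hu
    have h1 : T.γ n * (1 - c₂ * y') ∈ q' := by
      rw [show T.γ n * (1 - c₂ * y') = T.γ n - c₂ * i y by rw [hy']; ring,
        show T.γ n - c₂ * i y = c₁ * h' by rw [← hc₁₂]; ring, hqh']
      exact Ideal.mul_mem_left _ _ (Ideal.mem_span_singleton_self _)
    have h2 : 1 - c₂ * y' ∈ maximalIdeal (T.R (n + 1)) :=
      le_maximalIdeal hq'.1.ne_top ((hq'.1.mem_or_mem h1).resolve_left hγq)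
    refine (maximalIdeal.isMaximal (T.R (n + 1))).ne_top ((Ideal.eq_top_iff_one _).2 ?_)
    simpa using add_mem h2 (Ideal.mul_mem_left _ c₂ ((mem_maximalIdeal y').2 hu))
  have hspan : maximalIdeal (T.R (n + 1)) ≤ Ideal.span {h', T.γ n} := by
    intro a ha
    obtain ⟨r, s, hs, he⟩ := T.exists_rep (Nat.le_add_right n 1) hq hc a
    obtain ⟨k, u, hk⟩ := exists_unit_pow (T.dim n) hy hs
    have hmod : ∀ b ∈ Ideal.span {h}, i b ∈ Ideal.span {h'} := fun b hb => hqh' ▸ (hc.ge hb : b ∈ q'.comap i)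
    have hyγ : i y ∈ Ideal.span {h', T.γ n} := by
      rw [hy']; exact Ideal.mul_mem_right _ _ (Ideal.subset_span (by simp))
    have hA : a * (i u * i y ^ k) - i r ∈ Ideal.span {h'} := by
      rw [← he]
      have : a * (i u * i y ^ k) - a * i s = -(a * i (s - u * y ^ k)) := by
        rw [map_sub, map_mul, map_pow]; ring
      rw [this]
      exact (Ideal.span {h'}).neg_mem (Ideal.mul_mem_left _ _ (hmod _ hk))
    by_cases hr : r ∈ Ideal.span {h}
    · have h1 : a * i s ∈ q' := he ▸ (hc.ge hr : r ∈ q'.comap i)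
      have h2 : a ∈ q' := (hq'.1.mem_or_mem h1).resolve_right fun h3 => hs (hc ▸ (h3 : s ∈ q'.comap i))
      exact Ideal.span_mono (by simp) (hqh' ▸ h2)
    obtain ⟨l, v, hl⟩ := exists_unit_pow (T.dim n) hy hr
    have hB : a * (i u * i y ^ k) - i v * i y ^ l ∈ Ideal.span {h'} := by
      have := add_mem hA (hmod _ hl)
      rw [map_sub, map_mul, map_pow] at this
      convert this using 1; ring
    have hyq : i y ∉ Ideal.span {h'} := fun h3 => not_mem_span (T.dim n) hy (hc ▸ (hqh' ▸ h3 : i y ∈ q'))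
    haveI : (Ideal.span {h'}).IsPrime := hqh' ▸ hq'.1
    rcases Nat.lt_or_ge l k with hlk | hkl
    · exfalso
      obtain ⟨d, rfl⟩ := Nat.exists_eq_add_of_lt hlk
      have h3 : i y ^ l * (a * i u * i y ^ (d + 1) - i v) ∈ Ideal.span {h'} := by
        convert hB using 1; ring
      have h4 := ((Ideal.IsPrime.mem_or_mem ‹_› h3).resolve_left fun h5 => hyq (Ideal.IsPrime.mem_of_pow_mem ‹_› _ h5))
      have h6 : i v ∈ maximalIdeal (T.R (n + 1)) := by
        have h7 : a * i u * i y ^ (d + 1) ∈ maximalIdeal (T.R (n + 1)) :=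
          Ideal.mul_mem_right _ _ (Ideal.mul_mem_right _ _ ha)
        have h8 : Ideal.span {h'} ≤ maximalIdeal (T.R (n + 1)) := hqh' ▸ le_maximalIdeal hq'.1.ne_top
        simpa using sub_mem h7 (h8 h4)
      exact (mem_maximalIdeal _).1 h6 (v.isUnit.map i)
    · obtain ⟨d, rfl⟩ := Nat.exists_eq_add_of_le hkl
      have h3 : i y ^ k * (a * i u - i v * i y ^ d) ∈ Ideal.span {h'} := by
        convert hB using 1; ring
      have h4 := ((Ideal.IsPrime.mem_or_mem ‹_› h3).resolve_left fun h5 => hyq (Ideal.IsPrime.mem_of_pow_mem ‹_› _ h5))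
      obtain ⟨u', hu'⟩ := u.isUnit.map i
      rw [show a = (↑u'⁻¹ : T.R (n + 1)) * ((a * i u - i v * i y ^ d) + i v * i y ^ d) by
        rw [sub_add_cancel, ← hu', mul_comm a, ← mul_assoc, Units.inv_mul, one_mul]]
      refine Ideal.mul_mem_left _ _ (add_mem (Ideal.span_mono (by simp) h4) ?_)
      cases d with
      | zero =>
        exfalso
        have h6 : i v ∈ maximalIdeal (T.R (n + 1)) := by
          have h8 : Ideal.span {h'} ≤ maximalIdeal (T.R (n + 1)) := hqh' ▸ le_maximalIdeal hq'.1.ne_top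
          simpa using sub_mem (Ideal.mul_mem_right (i u) _ ha) (h8 h4)
        exact (mem_maximalIdeal _).1 h6 (v.isUnit.map i)
      | succ d => exact Ideal.mul_mem_left _ _ (Ideal.pow_mem_of_mem _ hyγ _ (Nat.succ_pos d))
  refine ⟨h', hqh', le_antisymm (Ideal.span_le.2 ?_) hspan, fun q'' hq'' hyq'' => ?_⟩
  · rintro a (rfl | rfl)
    · exact le_maximalIdeal hq'.1.ne_top (hqh' ▸ Ideal.mem_span_singleton_self _)
    · exact T.gamma_mem n
  · have h1 : T.γ n ∈ q'' := by
      haveI := hq''.1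
      rw [hy'] at hyq''
      exact (hq''.1.mem_or_mem hyq'').resolve_right fun h2 => hq''.1.ne_top (Ideal.eq_top_of_isUnit_mem _ h2 hu)
    exact (eq_of_le (T.dim (n + 1)) (T.gamma_pr n).1 (T.gamma_pr n).2.1 hq''.1 hq''.2.2
      ((Ideal.span_singleton_le_iff_mem _).2 h1)).symm

/-- Two distinct primes cannot both persist along the whole chain. -/
theorem unique_persistent {n : ℕ} {q₁ q₂ : Ideal (T.R n)} (h₁ : T.Pr n q₁) (h₂ : T.Pr n q₂)
    (hp₁ : ∀ m (h : n ≤ m), ∃ q', T.Pr m q' ∧ q'.comap (T.incl h) = q₁)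
    (hp₂ : ∀ m (h : n ≤ m), ∃ q', T.Pr m q' ∧ q'.comap (T.incl h) = q₂) : q₁ = q₂ := by
  by_contra hne
  obtain ⟨x, hx, hx'⟩ := SetLike.not_le_iff_exists.1 fun hle => hne (eq_of_le (T.dim n) h₁.1 h₁.2.1 h₂.1 h₂.2.2 hle)
  obtain ⟨y, hy, hy'⟩ := SetLike.not_le_iff_exists.1 fun hle => hne (eq_of_le (T.dim n) h₂.1 h₂.2.1 h₁.1 h₁.2.2 hle).symm
  obtain ⟨m, hm⟩ := T.exists_mem ((x : K) / y)
  have key : ∀ (a b : T.R n) (p : Ideal (T.R n)), (∀ m (h : n ≤ m), ∃ q', T.Pr m q' ∧ q'.comap (T.incl h) = p) →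
      b ∈ p → a ∉ p → (a : K) / b ∈ T.R m → (b : K) ≠ 0 → False := by
    intro a b p hp hb ha hmem hb0
    obtain ⟨q', hq', hc⟩ := hp (max n m) (le_max_left _ _)
    refine ha ?_
    rw [← hc]
    show T.incl _ a ∈ q'
    rw [show T.incl (le_max_left n m) a = ⟨(a : K) / b, T.mono (le_max_right n m) hmem⟩ * T.incl (le_max_left n m) b from
      Subtype.ext (div_mul_cancel₀ _ hb0).symm]
    exact Ideal.mul_mem_left _ _ (hc.ge hb)
  have hx0 : (x : K) ≠ 0 := fun e => hx' (by rw [show x = 0 from Subtype.ext e]; exact zero_mem _)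
  have hy0 : (y : K) ≠ 0 := fun e => hy' (by rw [show y = 0 from Subtype.ext e]; exact zero_mem _)
  rcases hm with hm | hm
  · exact key x y q₂ hp₂ hy hx' hm hy0
  · rw [inv_div] at hm
    exact key y x q₁ hp₁ hx hy' hm hx0

end Tower

end Groth.Agent.Snc
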