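import Mathlib
import Groth.Agent.Snc.Tower

/-!
# A persistent curve with finite normalization becomes regular
-/

set_option autoImplicit false
set_option linter.style.haveILetI false
set_option linter.unusedSectionVars false
set_option maxHeartbeats 400000

universe u

open IsLocalRing

noncomputable section

namespace Groth.Agent.Snc

/-- A local domain which is a birational image of a Dedekind domain has totally ordered divisibility. -/
theorem dvd_total_of_hom {N C : Type u} [CommRing N] [IsDedekindDomain N] [CommRing C] [IsDomain C] [IsLocalRing C]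
    (φ : N →+* C) (hrep : ∀ c : C, ∃ r s : N, φ s ≠ 0 ∧ c * φ s = φ r) (c₁ c₂ : C) : c₁ ∣ c₂ ∨ c₂ ∣ c₁ := by
  let P : Ideal N := (maximalIdeal C).comap φ
  haveI : P.IsPrime := Ideal.comap_isPrime φ (maximalIdeal C)
  let NP := Localization.AtPrime P
  have hV : ∀ x y : NP, x ∣ y ∨ y ∣ x := by
    by_cases hP : P = ⊥
    · have hmax : maximalIdeal NP = ⊥ := by
        rw [← Localization.AtPrime.map_eq_maximalIdeal]
        exact (Ideal.map_eq_bot_iff_of_injective
          (IsLocalization.injective NP P.primeCompl_le_nonZeroDivisors)).2 hP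
      intro x y
      by_cases hx : x = 0
      · exact Or.inr (hx ▸ dvd_zero y)
      · refine Or.inl (IsUnit.dvd (not_not.1 fun h => hx ?_))
        have : x ∈ maximalIdeal NP := (mem_maximalIdeal x).2 h
        rwa [hmax, Ideal.mem_bot] at this
    · haveI := IsLocalization.AtPrime.isDiscreteValuationRing_of_dedekind_domain N hP NP
      exact fun x y => ValuationRing.dvd_total x y
  let ψ : NP →+* C := IsLocalization.lift (M := P.primeCompl) (g := φ) fun x =>
    not_not.1 fun h => x.2 ((mem_maximalIdeal _).2 h)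
  have hψ : ∀ c, ψ (algebraMap N NP c) = φ c := fun c => IsLocalization.lift_eq _ c
  obtain ⟨r₁, s₁, h₁, e₁⟩ := hrep c₁
  obtain ⟨r₂, s₂, h₂, e₂⟩ := hrep c₂
  rw [← hψ] at h₁ h₂
  rw [← hψ, ← hψ r₁] at e₁
  rw [← hψ, ← hψ r₂] at e₂
  rcases hV (algebraMap N NP r₁ * algebraMap N NP s₂) (algebraMap N NP r₂ * algebraMap N NP s₁) with ⟨t, ht⟩ | ⟨t, ht⟩
  · refine Or.inl ⟨ψ t, mul_right_cancel₀ (mul_ne_zero h₁ h₂) ?_⟩
    calc c₂ * (ψ (algebraMap N NP s₁) * ψ (algebraMap N NP s₂))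
        = c₂ * ψ (algebraMap N NP s₂) * ψ (algebraMap N NP s₁) := by ring
      _ = ψ (algebraMap N NP r₁ * algebraMap N NP s₂ * t) := by rw [e₂, ← map_mul, ht]
      _ = c₁ * ψ t * (ψ (algebraMap N NP s₁) * ψ (algebraMap N NP s₂)) := by rw [map_mul, map_mul, ← e₁]; ring
  · refine Or.inr ⟨ψ t, mul_right_cancel₀ (mul_ne_zero h₁ h₂) ?_⟩
    calc c₁ * (ψ (algebraMap N NP s₁) * ψ (algebraMap N NP s₂))
        = c₁ * ψ (algebraMap N NP s₁) * ψ (algebraMap N NP s₂) := by ring
      _ = ψ (algebraMap N NP r₂ * algebraMap N NP s₁ * t) := by rw [e₁, ← map_mul, ht]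
      _ = c₂ * ψ t * (ψ (algebraMap N NP s₁) * ψ (algebraMap N NP s₂)) := by rw [map_mul, map_mul, ← e₂]; ring

variable {K : Type u} [Field K] (T : Tower K)

namespace Tower

section

variable {m : ℕ} {q₀ : Ideal (T.R 0)} {q : Ideal (T.R m)} (hc : q.comap (T.incl (Nat.zero_le m)) = q₀)

/-- The map of curve rings. -/
def curveMap : T.R 0 ⧸ q₀ →+* T.R m ⧸ q :=
  Ideal.quotientMap q (T.incl (Nat.zero_le m)) hc.ge

theorem curveMap_mk (a : T.R 0) : T.curveMap hc (Ideal.Quotient.mk q₀ a) = Ideal.Quotient.mk q (T.incl (Nat.zero_le m) a) :=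
  rfl

theorem curveMap_injective : Function.Injective (T.curveMap hc) :=
  Ideal.quotientMap_injective' hc.le

end

variable {q₀ : Ideal (T.R 0)} (h₀ : T.Pr 0 q₀)
  (hp : ∀ m, ∃ q, T.Pr m q ∧ q.comap (T.incl (Nat.zero_le m)) = q₀)

/-- A quotient of two elements below is, at some stage, a member of the ring or a unit inverse of one. -/
theorem exists_div (a b : T.R 0) (hb : b ≠ 0) :
    ∃ (m : ℕ) (t : T.R m), T.incl (Nat.zero_le m) a = t * T.incl (Nat.zero_le m) b ∨
      T.incl (Nat.zero_le m) b = t * T.incl (Nat.zero_le m) a := by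
  have hb0 : (b : K) ≠ 0 := fun e => hb (Subtype.ext e)
  obtain ⟨m, hm | hm⟩ := T.exists_mem ((a : K) / b)
  · exact ⟨m, ⟨_, hm⟩, Or.inl (Subtype.ext (div_mul_cancel₀ _ hb0).symm)⟩
  · by_cases ha : (a : K) = 0
    · exact ⟨m, 0, Or.inl (Subtype.ext (by rw [zero_mul]; exact ha))⟩
    rw [inv_div] at hm
    exact ⟨m, ⟨_, hm⟩, Or.inr (Subtype.ext (div_mul_cancel₀ _ ha).symm)⟩

/-- Integral quotients divide at some stage. -/
theorem exists_dvd_of_integral [q₀.IsPrime] (a b : T.R 0) (hb : b ∉ q₀)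
    (hint : ∃ p : Polynomial (T.R 0 ⧸ q₀), p.Monic ∧
      Polynomial.eval₂ (algebraMap (T.R 0 ⧸ q₀) (FractionRing (T.R 0 ⧸ q₀)))
        (algebraMap (T.R 0 ⧸ q₀) (FractionRing (T.R 0 ⧸ q₀)) (Ideal.Quotient.mk q₀ a) /
          algebraMap (T.R 0 ⧸ q₀) (FractionRing (T.R 0 ⧸ q₀)) (Ideal.Quotient.mk q₀ b)) p = 0) :
    ∃ m, ∀ (m' : ℕ) (_ : m ≤ m') (q : Ideal (T.R m')), T.Pr m' q →
      ∀ hc : q.comap (T.incl (Nat.zero_le m')) = q₀,
      T.curveMap hc (Ideal.Quotient.mk q₀ b) ∣ T.curveMap hc (Ideal.Quotient.mk q₀ a) := by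
  obtain ⟨m, t, ht⟩ := T.exists_div a b fun e => hb (e ▸ zero_mem _)
  refine ⟨m, fun m' hm q hq hc => ?_⟩
  haveI := hq.1
  let τ : T.R m' ⧸ q := Ideal.Quotient.mk q (T.incl hm t)
  have hbne : T.curveMap hc (Ideal.Quotient.mk q₀ b) ≠ 0 := fun e => hb
    (Ideal.Quotient.eq_zero_iff_mem.1 (T.curveMap_injective hc (e.trans (map_zero _).symm)))
  rcases ht with ht | ht
  · exact ⟨τ, by
      rw [curveMap_mk, curveMap_mk, mul_comm, ← map_mul]
      exact congrArg _ (congrArg (T.incl hm) ht |> fun e => e.trans (map_mul _ _ _))⟩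
  · have hbt : T.curveMap hc (Ideal.Quotient.mk q₀ b) = τ * T.curveMap hc (Ideal.Quotient.mk q₀ a) := by
      rw [curveMap_mk, curveMap_mk, ← map_mul]
      exact congrArg _ (congrArg (T.incl hm) ht |> fun e => e.trans (map_mul _ _ _))
    obtain ⟨p, hp, hpe⟩ := hint
    let F := FractionRing (T.R m' ⧸ q)
    let ι : FractionRing (T.R 0 ⧸ q₀) →+* F :=
      IsFractionRing.lift (g := (algebraMap (T.R m' ⧸ q) F).comp (T.curveMap hc))
        (fun x y h => T.curveMap_injective hc (IsFractionRing.injective _ F h))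
    have hι : ∀ c, ι (algebraMap _ _ c) = algebraMap (T.R m' ⧸ q) F (T.curveMap hc c) := fun c =>
      IsFractionRing.lift_algebraMap _ c
    have h1 := congrArg ι hpe
    rw [map_zero, Polynomial.hom_eval₂, map_div₀, hι, hι] at h1
    have h2 : algebraMap (T.R m' ⧸ q) F τ *
        (algebraMap (T.R m' ⧸ q) F (T.curveMap hc (Ideal.Quotient.mk q₀ a)) /
          algebraMap (T.R m' ⧸ q) F (T.curveMap hc (Ideal.Quotient.mk q₀ b))) = 1 := by
      rw [mul_div, ← map_mul, ← hbt, div_self]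
      exact (map_ne_zero_iff _ (IsFractionRing.injective (T.R m' ⧸ q) F)).2 hbne
    -- `τ` is a unit, being the inverse of an integral element
    have hu : IsUnit τ := by
      let p' := p.map (T.curveMap hc)
      have hp' : p'.Monic := hp.map _
      set z := algebraMap (T.R m' ⧸ q) F (T.curveMap hc (Ideal.Quotient.mk q₀ a)) /
          algebraMap (T.R m' ⧸ q) F (T.curveMap hc (Ideal.Quotient.mk q₀ b)) with hz
      have h3 : Polynomial.eval₂ (algebraMap (T.R m' ⧸ q) F) z p' = 0 := by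
        rw [Polynomial.eval₂_map]
        convert h1 using 2
        ext c
        exact (hι _).symm
      rw [Polynomial.eval₂_eq_sum_range] at h3
      have h4 : ∀ i ∈ Finset.range p'.natDegree, algebraMap (T.R m' ⧸ q) F τ ^ p'.natDegree * (algebraMap (T.R m' ⧸ q) F (p'.coeff i) * z ^ i) =
          algebraMap (T.R m' ⧸ q) F (p'.coeff i * τ ^ (p'.natDegree - i)) := by
        intro i hi
        rw [map_mul, map_pow]
        conv_lhs => rw [show p'.natDegree = (p'.natDegree - i) + i from (Nat.sub_add_cancel (Finset.mem_range.1 hi).le).symm, pow_add]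
        rw [show algebraMap (T.R m' ⧸ q) F τ ^ (p'.natDegree - i) * algebraMap (T.R m' ⧸ q) F τ ^ i *
          (algebraMap (T.R m' ⧸ q) F (p'.coeff i) * z ^ i) = algebraMap (T.R m' ⧸ q) F (p'.coeff i) *
            algebraMap (T.R m' ⧸ q) F τ ^ (p'.natDegree - i) * (algebraMap (T.R m' ⧸ q) F τ * z) ^ i by ring,
          h2, one_pow, mul_one]
      have h5 := congrArg (algebraMap (T.R m' ⧸ q) F τ ^ p'.natDegree * ·) h3
      simp only [mul_zero] at h5
      rw [Finset.sum_range_succ, hp'.coeff_natDegree, map_one, one_mul, mul_add, Finset.mul_sum,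
        Finset.sum_congr rfl h4, ← map_sum, ← mul_pow, h2, one_pow, ← map_one (algebraMap (T.R m' ⧸ q) F),
        ← map_add] at h5
      have h6 := IsFractionRing.injective (T.R m' ⧸ q) F (h5.trans (map_zero _).symm)
      have h7 : τ ∣ ∑ i ∈ Finset.range p'.natDegree, p'.coeff i * τ ^ (p'.natDegree - i) :=
        Finset.dvd_sum fun i hi => Dvd.dvd.mul_left
          (dvd_pow_self τ (Nat.sub_pos_of_lt (Finset.mem_range.1 hi)).ne') _
      rw [eq_neg_of_add_eq_zero_left h6, dvd_neg] at h7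
      exact isUnit_of_dvd_one h7
    obtain ⟨u, hu⟩ := hu
    refine ⟨↑u⁻¹, ?_⟩
    rw [hbt, ← hu, mul_comm, ← mul_assoc, Units.inv_mul, one_mul]

include h₀ hp in
/-- Some lift of a persistent prime is generated by a regular parameter. -/
theorem exists_regular_lift
    (hfin : Module.Finite (T.R 0 ⧸ q₀) (integralClosure (T.R 0 ⧸ q₀) (FractionRing (T.R 0 ⧸ q₀)))) :
    ∃ (m : ℕ) (x y : T.R m), Ideal.span {x, y} = maximalIdeal (T.R m) ∧ T.Pr m (Ideal.span {x}) ∧
      (Ideal.span {x}).comap (T.incl (Nat.zero_le m)) = q₀ := by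
  classical
  haveI := h₀.1
  let L := FractionRing (T.R 0 ⧸ q₀)
  let N := integralClosure (T.R 0 ⧸ q₀) L
  haveI : Module.Finite (T.R 0 ⧸ q₀) N := hfin
  obtain ⟨s, hs⟩ := hfin.fg_top
  have hab : ∀ ν : N, ∃ a b : T.R 0, b ∉ q₀ ∧
      (ν : L) = algebraMap _ L (Ideal.Quotient.mk q₀ a) / algebraMap _ L (Ideal.Quotient.mk q₀ b) := by
    intro ν
    obtain ⟨a', b', hb', he⟩ := IsFractionRing.div_surjective (A := T.R 0 ⧸ q₀) (ν : L)
    obtain ⟨a, rfl⟩ := Ideal.Quotient.mk_surjective a'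
    obtain ⟨b, rfl⟩ := Ideal.Quotient.mk_surjective b'
    exact ⟨a, b, fun h => nonZeroDivisors.ne_zero hb' (Ideal.Quotient.eq_zero_iff_mem.2 h), he.symm⟩
  choose a b hb hν using hab
  have hdvd : ∀ ν : N, ∃ m, ∀ (m' : ℕ) (_ : m ≤ m') (q : Ideal (T.R m')), T.Pr m' q →
      ∀ hc : q.comap (T.incl (Nat.zero_le m')) = q₀,
      T.curveMap hc (Ideal.Quotient.mk q₀ (b ν)) ∣ T.curveMap hc (Ideal.Quotient.mk q₀ (a ν)) := fun ν => by
    refine T.exists_dvd_of_integral (a ν) (b ν) (hb ν) ?_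
    obtain ⟨p, hp, hpe⟩ := ν.2
    exact ⟨p, hp, by rw [← hν]; exact hpe⟩
  choose d hd using hdvd
  let M := s.sup d
  obtain ⟨q, hq, hc⟩ := hp M
  haveI := hq.1
  let C := T.R M ⧸ q
  let F := FractionRing C
  let ι : L →+* F := IsFractionRing.lift (g := (algebraMap C F).comp (T.curveMap hc))
    (fun x y h => T.curveMap_injective hc (IsFractionRing.injective _ F h))
  have hι : ∀ c, ι (algebraMap _ _ c) = algebraMap C F (T.curveMap hc c) := fun c =>
    IsFractionRing.lift_algebraMap _ c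
  have hN : ∀ ν : N, ι ν ∈ (algebraMap C F).range := fun ν => by
    have hmem : ν ∈ Submodule.span (T.R 0 ⧸ q₀) (s : Set N) := by rw [hs]; trivial
    induction hmem using Submodule.span_induction with
    | mem ν hν' =>
      obtain ⟨c, hc'⟩ := hd ν M (Finset.le_sup hν') q hq hc
      refine ⟨c, ?_⟩
      rw [hν, map_div₀, hι, hι, hc', map_mul, mul_div_cancel_left₀]
      refine (map_ne_zero_iff _ (IsFractionRing.injective C F)).2 fun e => hb ν ?_
      exact Ideal.Quotient.eq_zero_iff_mem.1 (T.curveMap_injective hc (e.trans (map_zero _).symm))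
    | zero => rw [ZeroMemClass.coe_zero, map_zero]; exact zero_mem _
    | add x y _ _ hx hy =>
      show ι ((x : L) + (y : L)) ∈ _
      rw [map_add]; exact add_mem hx hy
    | smul r x _ hx =>
      rw [show ((r • x : N) : L) = algebraMap _ L r * (x : L) from Algebra.smul_def r (x : L), map_mul, hι]
      exact mul_mem ⟨_, rfl⟩ hx
  let e : C ≃+* (algebraMap C F).range := RingEquiv.ofBijective (algebraMap C F).rangeRestrict
    ⟨fun x y h => IsFractionRing.injective C F (congrArg Subtype.val h), RingHom.rangeRestrict_surjective _⟩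
  let φ : N →+* C := e.symm.toRingHom.comp ((ι.comp N.val.toRingHom).codRestrict (algebraMap C F).range hN)
  have hφ : ∀ ν, algebraMap C F (φ ν) = ι ν := fun ν => congrArg Subtype.val (e.apply_symm_apply ⟨ι ν, hN ν⟩)
  have hφ0 : ∀ c, φ (algebraMap _ N c) = T.curveMap hc c := fun c =>
    IsFractionRing.injective C F ((hφ _).trans (hι c))
  -- the integral closure is a Dedekind domain
  haveI : Ring.KrullDimLE 1 (T.R 0 ⧸ q₀) := by
    obtain ⟨π, hπ, hq₀⟩ := exists_gen (T.dim 0) h₀.1 h₀.2.1 h₀.2.2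
    haveI := (S2821.result (T.R 0)).1
    have h2 := ringKrullDim_quotient_succ_le_of_nonZeroDivisor (mem_nonZeroDivisors_of_ne_zero hπ.ne_zero)
    rw [← hq₀, T.dim 0] at h2
    refine Ring.krullDimLE_iff.2 ?_
    exact (ENat.WithBot.add_le_add_one_right_iff).1 (h2.trans_eq (by rfl))
  haveI : Ring.DimensionLEOne (T.R 0 ⧸ q₀) :=
    ⟨fun {p} hp0 hp => Ring.krullDimLE_one_iff_of_noZeroDivisors.mp inferInstance p hp0 hp⟩
  haveI : IsNoetherianRing N := IsNoetherianRing.of_finite (T.R 0 ⧸ q₀) N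
  haveI : IsFractionRing N L := IsIntegralClosure.isFractionRing_of_finite_extension (T.R 0 ⧸ q₀) L L N
  haveI : IsIntegrallyClosed N :=
    (isIntegrallyClosed_iff L).2 fun {x} hx => ⟨⟨x, isIntegral_trans (R := T.R 0 ⧸ q₀) (A := N) x hx⟩, rfl⟩
  haveI : Ring.DimensionLEOne N := ⟨fun {P} hP0 hP => Ideal.isMaximal_of_isIntegral_of_isMaximal_comap P
    (Ring.DimensionLEOne.maximalOfPrime (fun h => hP0 (Ideal.eq_bot_of_comap_eq_bot (R := T.R 0 ⧸ q₀) h)) inferInstance)⟩
  haveI hD : IsDedekindDomain N := {}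
  haveI : IsLocalRing C := IsLocalRing.of_surjective' (Ideal.Quotient.mk q) Ideal.Quotient.mk_surjective
  haveI : IsDomain C := Ideal.Quotient.isDomain q
  have htot : ∀ c₁ c₂ : C, c₁ ∣ c₂ ∨ c₂ ∣ c₁ := dvd_total_of_hom φ fun c => by
    obtain ⟨a, rfl⟩ := Ideal.Quotient.mk_surjective c
    obtain ⟨r, s, hs', hrs⟩ := T.exists_rep (Nat.zero_le M) h₀ hc a
    refine ⟨algebraMap _ N (Ideal.Quotient.mk q₀ r), algebraMap _ N (Ideal.Quotient.mk q₀ s), ?_, ?_⟩
    · rw [hφ0]
      exact fun e => hs' (Ideal.Quotient.eq_zero_iff_mem.1 (T.curveMap_injective hc (e.trans (map_zero _).symm)))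
    · rw [hφ0, hφ0, curveMap_mk, curveMap_mk, ← map_mul, hrs]
  obtain ⟨t, ht, htm⟩ := Submodule.FG.exists_span_finset_card_eq_spanFinrank
    (IsNoetherian.noetherian (maximalIdeal (T.R M)) : (maximalIdeal (T.R M)).FG)
  have ht2 : t.card = 2 := by
    have h := IsRegularLocalRing.spanFinrank_maximalIdeal (R := T.R M)
    rw [← ht, T.dim M] at h
    exact_mod_cast h
  obtain ⟨g₁, g₂, -, rfl⟩ := Finset.card_eq_two.1 ht2
  have hgen : maximalIdeal (T.R M) = Ideal.span {g₁, g₂} := by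
    rw [← htm, Ideal.submodule_span_eq]; simp
  obtain ⟨x, hx, hqx⟩ := exists_gen (T.dim M) hq.1 hq.2.1 hq.2.2
  have key : ∀ u v : T.R M, maximalIdeal (T.R M) = Ideal.span {u, v} → Ideal.Quotient.mk q u ∣ Ideal.Quotient.mk q v →
      Ideal.span {x, u} = maximalIdeal (T.R M) := by
    intro u v huv ⟨c', hc'⟩
    obtain ⟨c, rfl⟩ := Ideal.Quotient.mk_surjective c'
    rw [← map_mul, Ideal.Quotient.eq, hqx, Ideal.mem_span_singleton] at hc'
    obtain ⟨w, hw⟩ := hc'
    refine le_antisymm (Ideal.span_le.2 ?_) (huv.le.trans (Ideal.span_le.2 ?_))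
    · rintro a (rfl | rfl)
      · exact le_maximalIdeal hq.1.ne_top (hqx ▸ Ideal.mem_span_singleton_self _)
      · exact huv ▸ Ideal.subset_span (by simp)
    · rintro a (rfl | rfl)
      · exact Ideal.subset_span (by simp)
      · exact Ideal.mem_span_pair.2 ⟨w, c, by linear_combination -hw⟩
  rcases htot (Ideal.Quotient.mk q g₁) (Ideal.Quotient.mk q g₂) with h | h
  · exact ⟨M, x, g₁, key g₁ g₂ hgen h, hqx ▸ hq, hqx ▸ hc⟩
  · exact ⟨M, x, g₂, key g₂ g₁ (by rw [hgen, Ideal.span_pair_comm]) h, hqx ▸ hq, hqx ▸ hc⟩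

end Tower

end Groth.Agent.Snc
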