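import Mathlib
import Groth.Agent.Snc.Curve

/-!
# An ideal becomes a normal crossings monomial along every chain of quadratic transforms
-/

set_option autoImplicit false
set_option linter.style.haveILetI false
set_option linter.unusedSectionVars false
set_option maxHeartbeats 400000

universe u

open IsLocalRing

noncomputable section

namespace Groth.Agent.Snc

/-- Primes forming part of a normal crossings configuration. -/
def IsSnc {A : Type u} [CommRing A] [IsLocalRing A] (S : Set (Ideal A)) : Prop :=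
  ∃ x y : A, Ideal.span {x, y} = maximalIdeal A ∧ ∀ q ∈ S, q = Ideal.span {x} ∨ q = Ideal.span {y}

variable {K : Type u} [Field K] (T : Tower K)

namespace Tower

/-- Descendants of a set of primes, and exceptional primes. -/
def desc {M m : ℕ} (h : M ≤ m) (Q : Set (Ideal (T.R M))) : Set (Ideal (T.R m)) :=
  {q | T.Pr m q ∧ (q.comap (T.incl h) ∈ Q ∨ q.comap (T.incl h) = maximalIdeal (T.R M))}

theorem exists_system (n : ℕ) : ∃ x y : T.R n, Ideal.span {x, y} = maximalIdeal (T.R n) := by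
  classical
  obtain ⟨t, ht, htm⟩ := Submodule.FG.exists_span_finset_card_eq_spanFinrank
    (IsNoetherian.noetherian (maximalIdeal (T.R n)) : (maximalIdeal (T.R n)).FG)
  have ht2 : t.card = 2 := by
    have h := IsRegularLocalRing.spanFinrank_maximalIdeal (R := T.R n)
    rw [← ht, T.dim n] at h
    exact_mod_cast h
  obtain ⟨g₁, g₂, -, rfl⟩ := Finset.card_eq_two.1 ht2
  exact ⟨g₁, g₂, by rw [← htm, Ideal.submodule_span_eq]; simp⟩

theorem isSnc_desc {M : ℕ} {Q : Set (Ideal (T.R M))} (hQ : IsSnc Q) :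
    ∀ {m : ℕ} (h : M ≤ m), IsSnc (T.desc h Q) := by
  intro m h
  induction h with
  | refl =>
    obtain ⟨x, y, hxy, hQ'⟩ := hQ
    exact ⟨x, y, hxy, fun q hq => hQ' q (hq.2.resolve_right fun e => hq.1.2.2 e)⟩
  | @step m h ih =>
    obtain ⟨x, y, hxy, hS⟩ := ih
    set i := T.incl (Nat.le_add_right m 1)
    have hcases : ∀ q ∈ T.desc (Nat.le.step h) Q,
        q = Ideal.span {T.γ m} ∨ q.comap i = Ideal.span {x} ∨ q.comap i = Ideal.span {y} := by
      intro q hq
      by_cases hg : q = Ideal.span {T.γ m}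
      · exact Or.inl hg
      · exact Or.inr (hS _ ⟨T.pr_comap_of_ne hq.1 hg, hq.2⟩)
    by_cases hx : ∃ q, T.Pr (m + 1) q ∧ q.comap i = Ideal.span {x}
    · obtain ⟨q₁, hq₁, hc₁⟩ := hx
      obtain ⟨x', hx', hx'γ, huniq⟩ := T.regular_lift hxy hq₁ hc₁
      refine ⟨x', T.γ m, hx'γ, fun q hq => ?_⟩
      rcases hcases q hq with h1 | h1 | h1
      · exact Or.inr h1
      · refine Or.inl (Eq.trans ?_ hx')
        have hpr : T.Pr m (Ideal.span {x}) := by
          have := prime_of_system (T.dim m) hxy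
          exact ⟨(Ideal.span_singleton_prime this.ne_zero).2 this,
            fun e => this.ne_zero (Ideal.span_singleton_eq_bot.1 e), span_ne_max (T.dim m) x⟩
        exact T.eq_of_comap _ hpr hq.1.1 hq₁.1 h1 hc₁
      · exact Or.inr (huniq q hq.1 (h1.ge (Ideal.mem_span_singleton_self y)))
    · by_cases hy : ∃ q, T.Pr (m + 1) q ∧ q.comap i = Ideal.span {y}
      · obtain ⟨q₂, hq₂, hc₂⟩ := hy
        obtain ⟨y', hy', hy'γ, -⟩ := T.regular_lift (by rw [Ideal.span_pair_comm, hxy]) hq₂ hc₂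
        refine ⟨y', T.γ m, hy'γ, fun q hq => ?_⟩
        rcases hcases q hq with h1 | h1 | h1
        · exact Or.inr h1
        · exact absurd ⟨q, hq.1, h1⟩ hx
        · refine Or.inl (Eq.trans ?_ hy')
          have hpr : T.Pr m (Ideal.span {y}) := by
            have := prime_of_system (T.dim m) (show Ideal.span {y, x} = _ by rw [Ideal.span_pair_comm, hxy])
            exact ⟨(Ideal.span_singleton_prime this.ne_zero).2 this,
              fun e => this.ne_zero (Ideal.span_singleton_eq_bot.1 e), span_ne_max (T.dim m) y⟩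
          exact T.eq_of_comap _ hpr hq.1.1 hq₂.1 h1 hc₂
      · obtain ⟨z, hz⟩ := T.exists_pair m
        refine ⟨T.γ m, z, hz, fun q hq => Or.inl ?_⟩
        rcases hcases q hq with h1 | h1 | h1
        · exact h1
        · exact absurd ⟨q, hq.1, h1⟩ hx
        · exact absurd ⟨q, hq.1, h1⟩ hy

variable (J : Ideal (T.R 0))

/-- The ideal on a later stage. -/
def ideal (n : ℕ) : Ideal (T.R n) := J.map (T.incl (Nat.zero_le n))

theorem ideal_ne_bot (hJ : J ≠ ⊥) (n : ℕ) : T.ideal J n ≠ ⊥ := fun h => hJ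
  ((Ideal.map_eq_bot_iff_of_injective (fun a b hab => Subtype.ext (congrArg Subtype.val hab : (a : K) = b))).1 h)

theorem ideal_map {n m : ℕ} (h : n ≤ m) : (T.ideal J n).map (T.incl h) = T.ideal J m := by
  rw [ideal, Ideal.map_map]; rfl

theorem ideal_le_comap {n m : ℕ} (h : n ≤ m) {q : Ideal (T.R m)} (hq : T.ideal J m ≤ q) :
    T.ideal J n ≤ q.comap (T.incl h) := Ideal.map_le_iff_le_comap.1 ((T.ideal_map J h).trans_le hq)

/-- A finitely generated ideal becomes principal. -/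
theorem exists_principal : ∃ N, ∀ m, N ≤ m → (T.ideal J m).IsPrincipal := by
  classical
  obtain ⟨s, hs⟩ : J.FG := IsNoetherian.noetherian J
  have key : ∀ s : Finset (T.R 0), ∃ N, ∀ m, N ≤ m → (T.ideal (Ideal.span (s : Set (T.R 0))) m).IsPrincipal := by
    intro s
    induction s using Finset.induction with
    | empty => exact ⟨0, fun m _ => ⟨0, by simp [ideal]⟩⟩
    | insert a s ha ih =>
      obtain ⟨N, hN⟩ := ih
      obtain ⟨g, hg⟩ := hN N le_rfl
      change _ = Ideal.span {g} at hg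
      have hfinal : ∀ m, N ≤ m → ∀ (h : N ≤ m) (t : T.R m),
          (T.incl (Nat.zero_le m) a = t * T.incl h g ∨ T.incl h g = t * T.incl (Nat.zero_le m) a) →
          ∀ m', m ≤ m' → (T.ideal (Ideal.span ((insert a s : Finset (T.R 0)) : Set (T.R 0))) m').IsPrincipal := by
        intro m _ h t ht m' hm'
        have he : T.ideal (Ideal.span ((insert a s : Finset (T.R 0)) : Set (T.R 0))) m' =
            Ideal.span {T.incl (Nat.zero_le m') a} ⊔ Ideal.span {T.incl (h.trans hm') g} := by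
          rw [Finset.coe_insert, Ideal.span_insert, ideal, Ideal.map_sup, Ideal.map_span, Set.image_singleton]
          congr 1
          show T.ideal (Ideal.span (s : Set (T.R 0))) m' = _
          rw [← T.ideal_map _ (h.trans hm'), hg, Ideal.map_span, Set.image_singleton]
        rw [he]
        rcases ht with ht | ht
        · refine ⟨T.incl (h.trans hm') g, sup_eq_right.2 ((Ideal.span_singleton_le_span_singleton).2 ⟨T.incl hm' t, ?_⟩)⟩
          exact ((congrArg (T.incl hm') ht).trans (map_mul _ _ _)).trans (mul_comm _ _)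
        · refine ⟨T.incl (Nat.zero_le m') a, sup_eq_left.2 ((Ideal.span_singleton_le_span_singleton).2 ⟨T.incl hm' t, ?_⟩)⟩
          exact ((congrArg (T.incl hm') ht).trans (map_mul _ _ _)).trans (mul_comm _ _)
      by_cases hg0 : (g : K) = 0
      · exact ⟨N, fun m' hm' => hfinal N le_rfl le_rfl 0 (Or.inr (Subtype.ext (by rw [zero_mul]; exact hg0))) m' hm'⟩
      obtain ⟨n, hn⟩ := T.exists_mem ((a : K) / g)
      refine ⟨max N n, ?_⟩
      rcases hn with hn | hn
      · exact hfinal _ (le_max_left N n) (le_max_left N n) ⟨_, T.mono (le_max_right N n) hn⟩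
          (Or.inl (Subtype.ext (div_mul_cancel₀ _ hg0).symm))
      · rw [inv_div] at hn
        by_cases ha0 : (a : K) = 0
        · exact hfinal _ (le_max_left N n) (le_max_left N n) 0 (Or.inl (Subtype.ext (by rw [zero_mul]; exact ha0)))
        · exact hfinal _ (le_max_left N n) (le_max_left N n) ⟨_, T.mono (le_max_right N n) hn⟩
            (Or.inr (Subtype.ext (div_mul_cancel₀ _ ha0).symm))
  rw [← hs]
  exact key s

theorem finite_primes (hJ : J ≠ ⊥) (n : ℕ) : {q | T.Pr n q ∧ T.ideal J n ≤ q}.Finite := by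
  refine (Ideal.finite_minimalPrimes_of_isNoetherianRing _ (T.ideal J n)).subset fun q ⟨hq, hle⟩ => ?_
  refine ⟨⟨hq.1, hle⟩, fun p ⟨hp, hJp⟩ hpq => ?_⟩
  refine (eq_of_le (T.dim n) hp (fun e => T.ideal_ne_bot J hJ n (le_bot_iff.1 (e ▸ hJp))) hq.1 hq.2.2 hpq).ge

/-- Along a chain the ideal becomes principal with normal crossings. -/
theorem exists_snc (hJ : J ≠ ⊥) (hfin : ∀ q, T.Pr 0 q → J ≤ q →
      Module.Finite (T.R 0 ⧸ q) (integralClosure (T.R 0 ⧸ q) (FractionRing (T.R 0 ⧸ q)))) :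
    ∃ N, (T.ideal J N).IsPrincipal ∧ IsSnc {q | T.Pr N q ∧ T.ideal J N ≤ q} := by
  classical
  obtain ⟨N₀, hN₀⟩ := T.exists_principal J
  let Pers : ∀ n, Ideal (T.R n) → Prop := fun n q => ∀ m (h : n ≤ m), ∃ q', T.Pr m q' ∧ q'.comap (T.incl h) = q
  -- a stage from which a persistent prime of the initial ideal has a regular lift
  obtain ⟨M₁, hM₁⟩ : ∃ M₁, ∀ q₀, T.Pr 0 q₀ → J ≤ q₀ → Pers 0 q₀ → ∀ q', T.Pr M₁ q' →
      q'.comap (T.incl (Nat.zero_le M₁)) = q₀ → IsSnc {q'} := by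
    by_cases h : ∃ q₀, T.Pr 0 q₀ ∧ J ≤ q₀ ∧ Pers 0 q₀
    · obtain ⟨q₀, h₀, hJ₀, hp⟩ := h
      obtain ⟨M₁, x, y, hxy, hx, hxc⟩ := T.exists_regular_lift h₀ (fun m => hp m (Nat.zero_le m)) (hfin q₀ h₀ hJ₀)
      refine ⟨M₁, fun q h1 _ h3 q' hq' hc => ⟨x, y, hxy, fun r hr => Or.inl ?_⟩⟩
      obtain rfl := T.unique_persistent h₀ h1 hp h3
      exact hr.trans (T.eq_of_comap _ h₀ hq'.1 hx.1 hc hxc)
    · exact ⟨0, fun q h1 h2 h3 => absurd ⟨q, h1, h2, h3⟩ h⟩
  let M := max N₀ M₁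
  have hreg : ∀ q, T.Pr M q → T.ideal J M ≤ q → Pers M q → IsSnc {q} := by
    intro q hq hJq hp
    haveI := hq.1
    let q₀ := q.comap (T.incl (Nat.zero_le M))
    by_cases hmax : q₀ = maximalIdeal (T.R 0)
    · obtain ⟨x, y, hxy⟩ := T.exists_system 0
      obtain ⟨x', y', hxy', hS⟩ := T.isSnc_desc (Q := ∅) ⟨x, y, hxy, fun r hr => absurd hr (Set.notMem_empty r)⟩ (Nat.zero_le M)
      exact ⟨x', y', hxy', fun r hr => hS r (hr ▸ ⟨hq, Or.inr hmax⟩)⟩
    have h₀ : T.Pr 0 q₀ := ⟨inferInstance, T.comap_ne_bot _ hq.2.1, hmax⟩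
    have hp₀ : Pers 0 q₀ := by
      intro m _
      obtain ⟨q', hq', hc⟩ := hp (max M m) (le_max_left _ _)
      have hc0 : q'.comap (T.incl (Nat.zero_le (max M m))) = q₀ := by
        show _ = q.comap _
        rw [← hc]; rfl
      exact ⟨q'.comap (T.incl (le_max_right M m)), T.pr_between (Nat.zero_le m) (le_max_right M m) hq' (hc0.symm ▸ h₀), hc0⟩
    have hJ₀ : J ≤ q₀ := Ideal.map_le_iff_le_comap.1 hJq
    let q₁ := q.comap (T.incl (le_max_right N₀ M₁))
    have hq₁ : T.Pr M₁ q₁ := T.pr_between (Nat.zero_le _) (le_max_right N₀ M₁) hq h₀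
    obtain ⟨x', y', hxy', hS⟩ := T.isSnc_desc (hM₁ q₀ h₀ hJ₀ hp₀ q₁ hq₁ rfl) (le_max_right N₀ M₁)
    exact ⟨x', y', hxy', fun r hr => hS r (hr ▸ ⟨hq, Or.inl rfl⟩)⟩
  let Q : Set (Ideal (T.R M)) := {q | T.Pr M q ∧ T.ideal J M ≤ q ∧ Pers M q}
  have hQ : IsSnc Q := by
    rcases Q.eq_empty_or_nonempty with h | ⟨q, hq⟩
    · obtain ⟨x, y, hxy⟩ := T.exists_system M
      exact ⟨x, y, hxy, fun r hr => absurd hr (h ▸ Set.notMem_empty r)⟩
    · obtain ⟨x, y, hxy, hS⟩ := hreg q hq.1 hq.2.1 hq.2.2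
      exact ⟨x, y, hxy, fun r hr => T.unique_persistent hr.1 hq.1 hr.2.2 hq.2.2 ▸ hS q rfl⟩
  have hdie : ∀ q : Ideal (T.R M), ∃ m, T.Pr M q → ¬ Pers M q →
      ∀ m' (h : M ≤ m'), m ≤ m' → ∀ q', T.Pr m' q' → q'.comap (T.incl h) ≠ q := by
    intro q
    by_cases hp : Pers M q
    · exact ⟨0, fun _ hn => absurd hp hn⟩
    · simp only [Pers, not_forall] at hp
      obtain ⟨m, hMm, hm⟩ := hp
      refine ⟨m, fun hq _ m' h hmm' q' hq' he => hm ⟨q'.comap (T.incl hmm'), ?_, he⟩⟩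
      exact T.pr_between hMm hmm' hq' (he.symm ▸ hq)
  choose d hd using hdie
  let N := max M ((T.finite_primes J hJ M).toFinset.sup d)
  refine ⟨N, hN₀ N ((le_max_left N₀ M₁).trans (le_max_left _ _)), ?_⟩
  obtain ⟨x, y, hxy, hS⟩ := T.isSnc_desc hQ (le_max_left M ((T.finite_primes J hJ M).toFinset.sup d))
  refine ⟨x, y, hxy, fun q ⟨hq, hJq⟩ => hS q ⟨hq, ?_⟩⟩
  by_cases hmax : q.comap (T.incl (le_max_left M ((T.finite_primes J hJ M).toFinset.sup d))) = maximalIdeal (T.R M)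
  · exact Or.inr hmax
  refine Or.inl ⟨?_, T.ideal_le_comap J _ hJq, ?_⟩
  · haveI := hq.1
    exact ⟨inferInstance, T.comap_ne_bot _ hq.2.1, hmax⟩
  · by_contra hp
    haveI := hq.1
    exact hd _ ⟨inferInstance, T.comap_ne_bot _ hq.2.1, hmax⟩ hp N (le_max_left _ _)
      (le_trans (Finset.le_sup ((T.finite_primes J hJ M).mem_toFinset.2
        ⟨⟨inferInstance, T.comap_ne_bot _ hq.2.1, hmax⟩, T.ideal_le_comap J _ hJq⟩)) (le_max_right _ _)) q hq rfl

end Tower

end Groth.Agent.Snc
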