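import Mathlib
import Groth.Agent.Snc.Eventual
import Groth.Agent.SurfSeq.Main

/-!
# Normal crossings monomials in regular local rings of dimension at most two
-/

set_option autoImplicit false
set_option linter.style.haveILetI false
set_option linter.unusedSectionVars false
set_option maxHeartbeats 400000

universe u

open IsLocalRing

noncomputable section

namespace Groth.Agent.Snc

/-- A principal ideal supported on a normal crossings divisor. -/
def Good {A : Type u} [CommRing A] [IsLocalRing A] (J : Ideal A) : Prop :=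
  J.IsPrincipal ∧ (J ≠ ⊤ → ∃ (d r : ℕ) (x : Fin d → A), 1 ≤ r ∧ r ≤ d ∧ ringKrullDim A = (d : WithBot ℕ∞) ∧
    Ideal.span (Set.range x) = maximalIdeal A ∧
    J.radical = Ideal.span {∏ i : Fin d, if (i : ℕ) < r then x i else 1})

theorem Good.map {A B : Type u} [CommRing A] [IsLocalRing A] [CommRing B] [IsLocalRing B] (e : A ≃+* B) {J : Ideal A}
    (h : Good J) : Good (J.map e.toRingHom) := by
  obtain ⟨⟨g, hg⟩, h2⟩ := h
  refine ⟨⟨e g, ?_⟩, fun hJ => ?_⟩
  · rw [hg, Ideal.submodule_span_eq, Ideal.map_span, Set.image_singleton]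
    all_goals rfl
  obtain ⟨d, r, x, h1, hrd, hdim, hspan, hrad⟩ := h2 fun e' => hJ (by rw [e', Ideal.map_top])
  refine ⟨d, r, e ∘ x, h1, hrd, (ringKrullDim_eq_of_ringEquiv e).symm.trans hdim, ?_, ?_⟩
  · rw [Set.range_comp, ← IsLocalRing.map_ringEquiv_maximalIdeal e, ← hspan, Ideal.map_span]
  · rw [← Ideal.map_radical_of_surjective (f := e.toRingHom) e.surjective
      (((RingHom.injective_iff_ker_eq_bot e.toRingHom).1 e.injective).trans_le bot_le), hrad, Ideal.map_span,
      Set.image_singleton, map_prod]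
    congr 2
    refine Finset.prod_congr rfl fun i _ => ?_
    split <;> simp

theorem good_of_dim_le_one {A : Type u} [CommRing A] [IsRegularLocalRing A] (h : ringKrullDim A ≤ 1) {J : Ideal A}
    (hJ : J ≠ ⊥) : Good J := by
  haveI := (S2821.result A).1
  haveI := SurfSeq.principal_of_dim_le_one A h
  haveI : Ring.KrullDimLE 1 A := Ring.krullDimLE_iff.mpr h
  refine ⟨IsPrincipalIdealRing.principal J, fun hJt => ?_⟩
  obtain ⟨π, hπ⟩ := IsPrincipalIdealRing.principal (maximalIdeal A)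
  rw [Ideal.submodule_span_eq] at hπ
  have hm0 : maximalIdeal A ≠ ⊥ := fun e => hJ (le_bot_iff.1 (e ▸ le_maximalIdeal hJt))
  have hd1 : ringKrullDim A = ((1 : ℕ) : WithBot ℕ∞) := by
    refine le_antisymm (by exact_mod_cast h) ?_
    rw [← IsLocalRing.maximalIdeal_height_eq_ringKrullDim]
    norm_cast
    refine Order.one_le_iff_pos.2 (pos_iff_ne_zero.2 fun e => hm0 ?_)
    have hmin := Ideal.mem_minimalPrimes_of_height_eq (I := (⊥ : Ideal A)) (J := maximalIdeal A) bot_le (by simp [e])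
    exact le_bot_iff.1 (hmin.2 ⟨Ideal.isPrime_bot, le_rfl⟩ bot_le)
  refine ⟨1, 1, fun _ => π, le_rfl, le_rfl, hd1, by rw [Set.range_const, hπ], ?_⟩
  rw [Fin.prod_univ_one, if_pos (by simp), ← hπ]
  refine le_antisymm (le_maximalIdeal fun e => hJt (Ideal.radical_eq_top.1 e)) ?_
  rw [Ideal.radical_eq_sInf]
  refine le_sInf fun P ⟨hJP, hP⟩ => ?_
  have hP0 : P ≠ ⊥ := fun e => hJ (le_bot_iff.1 (e ▸ hJP))
  exact (IsLocalRing.eq_maximalIdeal (Ring.krullDimLE_one_iff_of_noZeroDivisors.mp inferInstance P hP0 hP)).ge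

variable {A : Type u} [CommRing A] [IsRegularLocalRing A]

/-- The height-one primes containing an ideal. -/
def primesOver (J : Ideal A) : Set (Ideal A) := {q | q.IsPrime ∧ q ≠ ⊥ ∧ q ≠ maximalIdeal A ∧ J ≤ q}

theorem minimalPrimes_subset (hA : ringKrullDim A = 2) {J : Ideal A} (hJ : J.IsPrincipal) (hJ0 : J ≠ ⊥) :
    J.minimalPrimes ⊆ primesOver J := by
  intro q hq
  refine ⟨hq.1.1, fun e => hJ0 (le_bot_iff.1 (e ▸ hq.1.2)), fun e => ?_, hq.1.2⟩
  haveI := hJ
  have h1 := Ideal.height_le_one_of_isPrincipal_of_mem_minimalPrimes J q hq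
  rw [e] at h1
  have h2 := IsLocalRing.maximalIdeal_height_eq_ringKrullDim (R := A)
  rw [hA] at h2
  have h3 : ((2 : ℕ∞) : WithBot ℕ∞) ≤ ((1 : ℕ∞) : WithBot ℕ∞) := by
    rw [show ((2 : ℕ∞) : WithBot ℕ∞) = 2 from rfl, ← h2]
    exact WithBot.coe_le_coe.2 h1
  exact absurd (WithBot.coe_le_coe.1 h3) (by decide)

theorem good_of_snc (hA : ringKrullDim A = 2) {J : Ideal A} (hJ : J.IsPrincipal) (hJ0 : J ≠ ⊥)
    (hS : IsSnc (primesOver J)) : Good J := by
  classical
  haveI := (S2821.result A).1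
  refine ⟨hJ, fun hJt => ?_⟩
  obtain ⟨x, y, hxy, hxyS⟩ := hS
  have hmin := minimalPrimes_subset hA hJ hJ0
  obtain ⟨q₀, hq₀⟩ := Ideal.nonempty_minimalPrimes hJt
  have hd : ringKrullDim A = ((2 : ℕ) : WithBot ℕ∞) := hA
  have hxp := prime_of_system hA hxy
  have hyx : Ideal.span {y, x} = maximalIdeal A := by rw [Ideal.span_pair_comm, hxy]
  have hyp := prime_of_system hA hyx
  have key : ∀ (a b : A), Ideal.span {a, b} = maximalIdeal A → J.minimalPrimes = {Ideal.span {a}} →
      ∃ (d r : ℕ) (x : Fin d → A), 1 ≤ r ∧ r ≤ d ∧ ringKrullDim A = (d : WithBot ℕ∞) ∧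
        Ideal.span (Set.range x) = maximalIdeal A ∧
        J.radical = Ideal.span {∏ i : Fin d, if (i : ℕ) < r then x i else 1} := by
    intro a b hab hS
    refine ⟨2, 1, ![a, b], le_rfl, by norm_num, hd, by rw [Matrix.range_cons_cons_empty, hab], ?_⟩
    rw [← Ideal.sInf_minimalPrimes, hS, sInf_singleton, Fin.prod_univ_two]
    simp
  by_cases hx : Ideal.span {x} ∈ J.minimalPrimes
  · by_cases hy : Ideal.span {y} ∈ J.minimalPrimes
    · refine ⟨2, 2, ![x, y], by norm_num, le_rfl, hd, by rw [Matrix.range_cons_cons_empty, hxy], ?_⟩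
      have hS : J.minimalPrimes = {Ideal.span {x}, Ideal.span {y}} := by
        refine Set.eq_of_subset_of_subset (fun q hq => hxyS q (hmin hq)) ?_
        rintro q (rfl | rfl) <;> assumption
      rw [← Ideal.sInf_minimalPrimes, hS, sInf_pair, Fin.prod_univ_two]
      simp only [Fin.val_zero, Fin.val_one, Nat.zero_lt_two, Nat.one_lt_two, if_true, Matrix.cons_val_zero,
        Matrix.cons_val_one]
      refine le_antisymm (fun c hc => ?_) ?_
      · obtain ⟨hc1, hc2⟩ := Submodule.mem_inf.1 hc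
        obtain ⟨u, rfl⟩ := Ideal.mem_span_singleton.1 hc1
        rw [Ideal.mem_span_singleton] at hc2
        rcases hyp.dvd_mul.1 hc2 with h | h
        · exact absurd (Ideal.mem_span_singleton.2 h) (not_mem_span hA hyx)
        · exact Ideal.mem_span_singleton.2 (mul_dvd_mul_left x h)
      · exact le_inf (Ideal.span_singleton_le_span_singleton.2 ⟨y, rfl⟩)
          (Ideal.span_singleton_le_span_singleton.2 ⟨x, mul_comm x y⟩)
    · refine key x y hxy (Set.eq_singleton_iff_unique_mem.2 ⟨hx, fun q hq => ?_⟩)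
      exact (hxyS q (hmin hq)).resolve_right fun e => hy (e ▸ hq)
  · refine key y x hyx (Set.eq_singleton_iff_nonempty_unique_mem.2 ⟨⟨q₀, hq₀⟩, fun q hq => ?_⟩)
    exact (hxyS q (hmin hq)).resolve_left fun e => hx (e ▸ hq)

theorem snc_cases (hA : ringKrullDim A = 2) {S : Set (Ideal A)} (h : ¬ IsSnc S) :
    (∃ q ∈ S, ∃ q' ∈ S, q ≠ q') ∨ ∃ q ∈ S, ∀ a b, Ideal.span {a, b} = maximalIdeal A → q ≠ Ideal.span {a} := by
  classical
  by_contra hc
  push Not at hc
  obtain ⟨h1, h2⟩ := hc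
  refine h ?_
  rcases S.eq_empty_or_nonempty with he | ⟨q, hq⟩
  · obtain ⟨t, ht, htm⟩ := Submodule.FG.exists_span_finset_card_eq_spanFinrank
      (IsNoetherian.noetherian (maximalIdeal A) : (maximalIdeal A).FG)
    have ht2 : t.card = 2 := by
      have h := IsRegularLocalRing.spanFinrank_maximalIdeal (R := A)
      rw [← ht, hA] at h
      exact_mod_cast h
    obtain ⟨g₁, g₂, -, rfl⟩ := Finset.card_eq_two.1 ht2
    exact ⟨g₁, g₂, by rw [← htm, Ideal.submodule_span_eq]; simp, fun r hr => absurd hr (he ▸ Set.notMem_empty r)⟩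
  · obtain ⟨a, b, hab, hqa⟩ := h2 q hq
    exact ⟨a, b, hab, fun r hr => Or.inl ((h1 r hr q hq).trans hqa)⟩

/-- A prime with a regular quotient is part of a system of parameters. -/
theorem exists_system_of_surjective (hA : ringKrullDim A = 2) {q : Ideal A} (hq : q.IsPrime) (h0 : q ≠ ⊥)
    (hm : q ≠ maximalIdeal A) {C : Type u} [CommRing C] [IsRegularLocalRing C] (hC : ringKrullDim C ≤ 1)
    (f : A →+* C) (hf : Function.Surjective f) (hk : RingHom.ker f = q) :
    ∃ a b, Ideal.span {a, b} = maximalIdeal A ∧ q = Ideal.span {a} := by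
  haveI := (S2821.result C).1
  haveI := SurfSeq.principal_of_dim_le_one C hC
  obtain ⟨π, hπ, rfl⟩ := exists_gen hA hq h0 hm
  obtain ⟨c, hc⟩ := IsPrincipalIdealRing.principal (maximalIdeal C)
  rw [Ideal.submodule_span_eq] at hc
  obtain ⟨h, rfl⟩ := hf c
  haveI : IsLocalHom f := hf.isLocalHom
  refine ⟨π, h, le_antisymm (Ideal.span_le.2 ?_) fun a ha => ?_, rfl⟩
  · rintro a (rfl | rfl)
    · exact le_maximalIdeal hq.ne_top (Ideal.mem_span_singleton_self _)
    · exact (mem_maximalIdeal _).2 fun hu => (mem_maximalIdeal _).1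
        (hc ▸ Ideal.mem_span_singleton_self (f a) : f a ∈ maximalIdeal C) (hu.map f)
  · have h1 : f a ∈ maximalIdeal C :=
      (mem_maximalIdeal _).2 fun hu => (mem_maximalIdeal _).1 ha ((isUnit_map_iff f a).1 hu)
    rw [hc] at h1
    obtain ⟨d, hd⟩ := Ideal.mem_span_singleton.1 h1
    obtain ⟨d', rfl⟩ := hf d
    obtain ⟨r, hr⟩ : π ∣ a - h * d' := by
      rw [← Ideal.mem_span_singleton, ← hk, RingHom.mem_ker, map_sub, map_mul, hd, sub_self]
    exact Ideal.mem_span_pair.2 ⟨r, d', by linear_combination -hr⟩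

end Groth.Agent.Snc
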