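import Mathlib
import Groth.Agent.PointBlow.Main
import Groth.Agent.NormSeq.Step
import Groth.Agent.Lib.NegVanStalk

/-!
# Point blow-ups of regular surfaces
-/

set_option autoImplicit false
set_option linter.style.haveILetI false
set_option linter.unusedSectionVars false
set_option backward.isDefEq.respectTransparency false
set_option backward.isDefEq.respectTransparency.types false
set_option maxHeartbeats 800000

universe u

open CategoryTheory CategoryTheory.Limits AlgebraicGeometry TopologicalSpace IsLocalRing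
open Groth.Agent.H23.StalkIdeal
open Groth.Agent.PointBlow (pt locTo locB)

noncomputable section

namespace Groth.Agent.Snc

/-- Regular integral Noetherian schemes of dimension at most two. -/
structure Surf (Z : Scheme.{u}) : Prop where
  integral : IsIntegral Z
  noeth : IsNoetherian Z
  regular : ∀ z : Z, IsRegularLocalRing (Z.presheaf.stalk z)
  dim : ∀ z : Z, ringKrullDim (Z.presheaf.stalk z) ≤ 2

theorem exists_pair_local {A : Type u} [CommRing A] [IsRegularLocalRing A] (hA : ringKrullDim A = 2)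
    {X : Scheme.{u}} (b : X ⟶ Spec (CommRingCat.of A)) (hb : BlowUp.IsBlowUp b (BlowUpLib.centre (maximalIdeal A)))
    {z : X} (hz : b z = closedPoint A) (γ : X.presheaf.stalk z)
    (hγ : sI ((BlowUpLib.centre (maximalIdeal A)).comap b) z = Ideal.span {γ}) :
    ∃ h, Ideal.span {γ, h} = maximalIdeal (X.presheaf.stalk z) := by
  classical
  set E := (BlowUpLib.centre (maximalIdeal A)).comap b
  obtain ⟨y, rfl⟩ : z ∈ Set.range E.subschemeι := by
    rw [Scheme.IdealSheafData.range_subschemeι]
    exact (PointBlow.mem_exceptional_iff b z).2 hz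
  obtain ⟨-, -, k, hk, e, -⟩ := BlowP1.main hA b hb
  haveI := CurveCover.isIntegral_line k
  haveI : IsRegularLocalRing ((CohB1.ProjSpace 1 k).presheaf.stalk (e.inv y)) := NegVanStalk.isRegular_stalk _
  haveI hR : IsRegularLocalRing (E.subscheme.presheaf.stalk y) :=
    IsRegularLocalRing.of_ringEquiv (asIso (e.inv.stalkMap y)).commRingCatIsoToRingEquiv
  have hdim : ringKrullDim (E.subscheme.presheaf.stalk y) ≤ 1 := by
    rw [← ringKrullDim_eq_of_ringEquiv (asIso (e.inv.stalkMap y)).commRingCatIsoToRingEquiv]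
    exact (SchTop.ringKrullDim_stalk_le _).trans (CurveCover.dim_line k).le
  obtain ⟨t, ht, htm⟩ := Submodule.FG.exists_span_finset_card_eq_spanFinrank
    (IsNoetherian.noetherian (maximalIdeal (E.subscheme.presheaf.stalk y)) : (maximalIdeal (E.subscheme.presheaf.stalk y)).FG)
  have ht1 : t.card ≤ 1 := by
    have h := IsRegularLocalRing.spanFinrank_maximalIdeal (R := E.subscheme.presheaf.stalk y)
    rw [← ht] at h
    rw [← h] at hdim
    exact_mod_cast hdim
  obtain ⟨a, ha⟩ : ∃ a, maximalIdeal (E.subscheme.presheaf.stalk y) ≤ Ideal.span {a} ∧ a ∈ maximalIdeal (E.subscheme.presheaf.stalk y) := by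
    rcases Nat.le_one_iff_eq_zero_or_eq_one.1 ht1 with h0 | h0
    · refine ⟨0, ?_, zero_mem _⟩
      rw [← htm, Finset.card_eq_zero.1 h0, Finset.coe_empty, Submodule.span_empty]
      exact bot_le
    · obtain ⟨a, rfl⟩ := Finset.card_eq_one.1 h0
      refine ⟨a, ?_, htm ▸ Submodule.subset_span (by simp)⟩
      rw [← htm]; simp
  obtain ⟨h, rfl⟩ := E.subschemeι.stalkMap_surjective y a
  refine ⟨h, le_antisymm (Ideal.span_le.2 ?_) fun c hc => ?_⟩
  · rintro c (rfl | rfl)
    · refine (mem_maximalIdeal _).2 fun hu => (PointBlow.mem_support_iff E (E.subschemeι y)).1 ?_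
        (hγ.trans (Ideal.span_singleton_eq_top.2 hu))
      rw [← Scheme.IdealSheafData.range_subschemeι]; exact ⟨y, rfl⟩
    · exact (mem_maximalIdeal _).2 fun hu => (mem_maximalIdeal _).1 ha.2 (hu.map _)
  · obtain ⟨d, hd⟩ := Ideal.mem_span_singleton.1 (ha.1 (show E.subschemeι.stalkMap y c ∈ maximalIdeal _ from
      (mem_maximalIdeal _).2 fun hu => (mem_maximalIdeal _).1 hc ((isUnit_map_iff (E.subschemeι.stalkMap y).hom c).1 hu)))
    obtain ⟨d', rfl⟩ := E.subschemeι.stalkMap_surjective y d
    have hker : c - h * d' ∈ Ideal.span {γ} := by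
      rw [← hγ, ← PointBlow.ker_stalkMap, RingHom.mem_ker, map_sub, map_mul]
      exact sub_eq_zero.2 hd
    obtain ⟨r, hr⟩ := Ideal.mem_span_singleton.1 hker
    exact Ideal.mem_span_pair.2 ⟨r, d', by linear_combination -hr⟩

theorem exists_pair {X X₁ : Scheme.{u}} [IsLocallyNoetherian X] {x : X} (hx : IsClosed ({x} : Set X)) {b : X₁ ⟶ X}
    (hb : BlowUp.IsBlowUp b (pt hx)) [IsRegularLocalRing (X.presheaf.stalk x)]
    (hdim : ringKrullDim (X.presheaf.stalk x) = 2) {w : X₁} (hw : b w = x) (γ : X₁.presheaf.stalk w)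
    (hγ : sI ((pt hx).comap b) w = Ideal.span {γ}) :
    ∃ h, Ideal.span {γ, h} = maximalIdeal (X₁.presheaf.stalk w) := by
  obtain ⟨w', rfl, hw'⟩ := PointBlow.exists_lift hx hb hw
  haveI := PointBlow.isIso_stalkMap_loc hx hb w'
  let e := (asIso ((locTo b x).stalkMap w')).commRingCatIsoToRingEquiv
  obtain ⟨h', hh'⟩ := exists_pair_local (A := X.presheaf.stalk x) hdim (locB b x) (PointBlow.blowUp_local hx hb) hw'
    ((locTo b x).stalkMap w' γ) (by
      rw [← PointBlow.exc_comap_loc hx hb, sI_comap, hγ, Ideal.map_span, Set.image_singleton])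
  refine ⟨e.symm h', ?_⟩
  rw [← IsLocalRing.map_ringEquiv_maximalIdeal e.symm, ← hh', Ideal.map_span, Set.image_pair]
  congr
  exact (e.symm_apply_apply γ).symm

/-- The blow-up of a closed point of a regular surface. -/
theorem exists_blowUp_step {Z : Scheme.{u}} (hZ : Surf Z) [IsIntegral Z] {z : Z} (hz : IsClosed ({z} : Set Z))
    (hd : ringKrullDim (Z.presheaf.stalk z) = 2) :
    ∃ (Z₁ : Scheme.{u}) (h : Z₁ ⟶ Z) (_ : IsIntegral Z₁), Surf Z₁ ∧ IsProper h ∧
      (∀ (X₀ : Scheme.{u}) (r : Z ⟶ X₀), Models.IsContractionSeq r → Models.IsContractionSeq (h ≫ r)) ∧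
      IsIso (h.stalkMap (genericPoint Z₁)) ∧ BlowUp.IsEffCartierIdeal ((pt hz).comap h) ∧
      (∀ w, h w ≠ z → IsIso (h.stalkMap w)) ∧
      ∀ w, h w = z → ∀ γ, sI ((pt hz).comap h) w = Ideal.span {γ} →
        ∃ a, Ideal.span {γ, a} = maximalIdeal (Z₁.presheaf.stalk w) := by
  haveI := hZ.noeth
  haveI := hZ.regular z
  obtain ⟨Z', b, hb⟩ := BlowUpLib.exists_blowUp (C := pt hz)
  haveI := PointBlow.isProper_point hz hb
  have hne : genericPoint Z ≠ z := fun h => by
    have h2 : Order.coheight z = 2 :=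
      WithBot.coe_eq_coe.1 (((ringKrullDim_stalk_eq_coheight z).symm.trans hd).trans (by rfl))
    have h0 : Order.coheight z = 0 := Order.coheight_eq_zero.2 fun w _ => show w ≤ z from
      h ▸ genericPoint_specializes w
    exact absurd (h2.symm.trans h0) (by decide)
  obtain ⟨hint, -, hbiso⟩ :
      ∃ _ : IsIntegral Z', b (genericPoint Z') = genericPoint Z ∧ IsIso (b.stalkMap (genericPoint Z')) := by
    refine (Lib.BlowUpInt.isEmpty_or_birational hb).resolve_left fun hE => ?_
    haveI := PointBlow.isIso_off hz hb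
    exact hE.false ((inv (b ∣_ (⟨{z}ᶜ, hz.isOpen_compl⟩ : Z.Opens))) ⟨genericPoint Z, hne⟩).1
  haveI := hint
  haveI : IsLocallyNoetherian Z' := LocallyOfFiniteType.isLocallyNoetherian b
  haveI : CompactSpace Z' := QuasiCompact.compactSpace_of_compactSpace b
  haveI : IsNoetherian Z' := {}
  obtain ⟨E, ι, hι, hE, hcon⟩ := PointBlow.exists_contraction hz hb hd
  exact ⟨Z', b, hint, ⟨hint, inferInstance, fun w => PointBlow.regular_of_regular hz hb hd w (hZ.regular _),
      fun w => (NormSeq.dim_le b hbiso w).trans (hZ.dim _)⟩, inferInstance,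
    fun X₀ r hr => Models.IsContractionSeq.step ι b r hι hE hcon hr, hbiso, hb.1,
    fun w hw => PointBlow.isIso_stalkMap_off hz hb hw, fun w hw γ hγ => exists_pair hz hb hd hw γ hγ⟩

end Groth.Agent.Snc
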