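import Mathlib
import Groth.Agent.Snc.Good
import Groth.Agent.Snc.Step
import Groth.Agent.H23.StalkPrimes

/-!
# Points where an ideal on a regular surface is not a normal crossings monomial
-/

set_option autoImplicit false
set_option linter.style.haveILetI false
set_option linter.unusedSectionVars false
set_option backward.isDefEq.respectTransparency false
set_option backward.isDefEq.respectTransparency.types false
set_option maxHeartbeats 800000

universe u

open CategoryTheory CategoryTheory.Limits AlgebraicGeometry TopologicalSpace IsLocalRing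
open Groth.Agent.H23.StalkIdeal
open Groth.Agent.CDiv6 (primeOf mem_primeOf height_primeOf)

noncomputable section

namespace Groth.Agent.Snc

variable {Z : Scheme.{u}}

instance (z : Z) : IsLocalRing (Z.presheaf.stalk z) := inferInstance

/-- The bad points. -/
def badSet (K : Z.IdealSheafData) : Set Z := {w | ¬ Good (sI K w)}

/-- The curves in the support. -/
def dimOne (K : Z.IdealSheafData) : Set Z := {ξ | ξ ∈ (K.support : Set Z) ∧ Order.coheight ξ = 1}

/-- The curve through `ξ` is regular at `w`. -/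
def RegAt (ξ w : Z) : Prop :=
  ∃ (h : ξ ⤳ w) (a b : Z.presheaf.stalk w), Ideal.span {a, b} = maximalIdeal (Z.presheaf.stalk w) ∧
    (primeOf h).asIdeal = Ideal.span {a}

variable (hZ : Surf Z)
include hZ

theorem coheight_le (z : Z) : Order.coheight z ≤ 2 := by
  have h := hZ.dim z
  rw [ringKrullDim_stalk_eq_coheight] at h
  exact WithBot.coe_le_coe.1 (h.trans_eq (by rfl))

theorem coheight_eq_two {z : Z} (hd : ringKrullDim (Z.presheaf.stalk z) = 2) : Order.coheight z = 2 := by
  rw [ringKrullDim_stalk_eq_coheight] at hd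
  exact WithBot.coe_eq_coe.1 (hd.trans (by rfl))

theorem eq_two_of_lt {ξ w : Z} (hξ : Order.coheight ξ = 1) (h : ξ ⤳ w) (hne : w ≠ ξ) :
    ringKrullDim (Z.presheaf.stalk w) = 2 := by
  have hlt : w < ξ := lt_of_le_of_ne h hne
  have h1 := Order.coheight_add_one_le hlt
  rw [hξ] at h1
  rw [ringKrullDim_stalk_eq_coheight, le_antisymm (coheight_le hZ w) (le_trans (le_of_eq (by rfl)) h1)]
  rfl

theorem dim_of_bad [IsIntegral Z] {K : Z.IdealSheafData} (hK : K ≠ ⊥) {w : Z} (hw : w ∈ badSet K) :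
    ringKrullDim (Z.presheaf.stalk w) = 2 := by
  haveI := hZ.regular w
  exact SurfSeq.eq_two (hZ.dim w) fun h => hw (good_of_dim_le_one h (PointBlow.sI_ne_bot hK w))

theorem finite_strict {ξ : Z} (hξ : Order.coheight ξ = 1) {C : Set Z} (hC : IsClosed C) (hξC : ξ ∉ C) :
    {w | ξ ⤳ w ∧ w ∈ C}.Finite := by
  haveI := hZ.noeth
  have he : {w | ξ ⤳ w ∧ w ∈ C} = closure {ξ} ∩ C := by
    ext w; simp [specializes_iff_mem_closure]
  rw [he]
  refine PointBlow.finite_of_closed_points (isClosed_closure.inter hC) fun w ⟨hw, hwC⟩ => ?_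
  exact SurfSeq.closed_two hZ.dim
    (eq_two_of_lt hZ hξ (specializes_iff_mem_closure.2 hw) fun e => hξC (e ▸ hwC))

variable [IsIntegral Z] {K : Z.IdealSheafData} (hK : K ≠ ⊥)
include hK

theorem finite_dimOne : (dimOne K).Finite := by
  haveI := hZ.noeth
  obtain ⟨S, hSf, hSc, hSi, hS⟩ :=
    NoetherianSpace.exists_finite_set_isClosed_irreducible (K.support.isClosed : IsClosed (K.support : Set Z))
  choose g hg using fun s (hs : s ∈ S) => QuasiSober.sober (hSi s hs) (hSc s hs)
  refine (hSf.dependent_image g).subset ?_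
  rintro ξ ⟨hξ, hdim⟩
  obtain ⟨s, hs, hξs⟩ := hS.le hξ
  refine ⟨s, hs, ?_⟩
  by_contra hne
  have hsp : g s hs ⤳ ξ := (hg s hs).specializes hξs
  have hmem : g s hs ∈ (K.support : Set Z) := hS.ge ⟨s, hs, (hg s hs).mem⟩
  have h1 := Order.coheight_add_one_le (lt_of_le_of_ne (show ξ ≤ g s hs from hsp) (Ne.symm hne))
  rw [hdim] at h1
  have h0 : Order.coheight (g s hs) = 0 := by
    by_contra h
    exact absurd ((add_le_add (Order.one_le_iff_ne_zero.2 h) le_rfl).trans h1) (by decide)
  have hgen : g s hs = genericPoint Z :=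
    ((show g s hs ⤳ genericPoint Z from Order.coheight_eq_zero.1 h0
      (show g s hs ≤ genericPoint Z from genericPoint_specializes _)).antisymm (genericPoint_specializes _)).eq
  rw [hgen, PointBlow.mem_support_iff] at hmem
  refine hmem ?_
  rcases Ideal.eq_bot_or_top (K := Z.functionField) (sI K (genericPoint Z)) with h | h
  · exact absurd h (PointBlow.sI_ne_bot hK _)
  · exact h

theorem finite_pairs : {w | ∃ ξ ∈ dimOne K, ∃ ξ' ∈ dimOne K, ξ ≠ ξ' ∧ ξ ⤳ w ∧ ξ' ⤳ w}.Finite := by
  refine ((finite_dimOne hZ hK).biUnion fun ξ hξ => (finite_dimOne hZ hK).biUnion fun ξ' hξ' =>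
    (show {w | ξ ≠ ξ' ∧ ξ ⤳ w ∧ ξ' ⤳ w}.Finite from ?_)).subset ?_
  · by_cases hne : ξ = ξ'
    · exact Set.finite_empty.subset fun w hw => hw.1 hne
    refine (finite_strict hZ hξ.2 (isClosed_closure (s := {ξ'})) fun hmem => ?_).subset
      fun w hw => ⟨hw.2.1, specializes_iff_mem_closure.1 hw.2.2⟩
    have h1 := Order.coheight_add_one_le (lt_of_le_of_ne
      (show ξ ≤ ξ' from specializes_iff_mem_closure.2 hmem) hne)
    rw [hξ.2, hξ'.2] at h1
    exact absurd h1 (by decide)
  · rintro w ⟨ξ, hξ, ξ', hξ', hne, h, h'⟩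
    simp only [Set.mem_iUnion]
    exact ⟨ξ, hξ, ξ', hξ', hne, h, h'⟩

theorem finite_nonprincipal : {w | ¬ (sI K w).IsPrincipal}.Finite := by
  haveI := hZ.noeth
  refine PointBlow.finite_of_closed_points ?_ fun w hw => ?_
  · rw [← isOpen_compl_iff, isOpen_iff_forall_mem_open]
    intro w hw
    rw [Set.mem_compl_iff, Set.mem_setOf_eq, not_not] at hw
    obtain ⟨g, hg⟩ := hw
    have hg' : sI K w = Ideal.span {g} := hg
    obtain ⟨U, hwU, a, -, hU⟩ := PointBlow.exists_gen_nhd K
      (fun e => PointBlow.sI_ne_bot hK w (by rw [hg', e, Ideal.span_singleton_eq_bot])) hg'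
    refine ⟨U.1, fun v hv hnp => hnp ⟨Z.presheaf.germ U.1 v hv a, ?_⟩, U.1.isOpen, hwU⟩
    rw [sI_eq K U hv, CDivEq.stk, hU, Ideal.map_span, Set.image_singleton]
  · haveI := hZ.regular w
    refine SurfSeq.closed_two hZ.dim (SurfSeq.eq_two (hZ.dim w) fun h => hw ?_)
    haveI := SurfSeq.principal_of_dim_le_one (Z.presheaf.stalk w) h
    exact IsPrincipalIdealRing.principal _

theorem exists_point {w : Z} (hd : ringKrullDim (Z.presheaf.stalk w) = 2) {q : Ideal (Z.presheaf.stalk w)}
    (hq : haveI := hZ.regular w; q ∈ primesOver (sI K w)) :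
    ∃ (ξ : Z) (h : ξ ⤳ w), ξ ∈ dimOne K ∧ (primeOf h).asIdeal = q := by
  haveI := hZ.regular w
  haveI := (S2821.result (Z.presheaf.stalk w)).1
  obtain ⟨hqp, hq0, hqm, hle⟩ := hq
  haveI := hqp
  obtain ⟨ξ, h, rfl⟩ := H23.StalkPrimes.exists_point q
  refine ⟨ξ, h, ⟨(PointBlow.mem_support_iff K ξ).2 fun htop => ?_, ?_⟩, rfl⟩
  · rw [sI_spec K h] at htop
    refine (maximalIdeal.isMaximal (Z.presheaf.stalk ξ)).ne_top (top_le_iff.1 (htop ▸ Ideal.map_le_iff_le_comap.2 fun a ha => ?_))
    exact (mem_maximalIdeal _).2 ((mem_primeOf h a).1 (hle ha))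
  · have h1 := height_primeOf h
    haveI : (primeOf h).asIdeal.FiniteHeight := inferInstance
    have h2 : (primeOf h).asIdeal.height < (maximalIdeal (Z.presheaf.stalk w)).height :=
      Ideal.height_strict_mono_of_isPrime (lt_of_le_of_ne (le_maximalIdeal hqp.ne_top) hqm)
    rw [height_max hd, h1] at h2
    have h3 : Order.coheight ξ ≠ 0 := fun h0 => hq0 (by
      have hh : (primeOf h).asIdeal.height = 0 := h1.trans h0
      have hmin := Ideal.mem_minimalPrimes_of_height_le (I := (⊥ : Ideal (Z.presheaf.stalk w))) bot_le (hh.le.trans bot_le)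
      exact le_bot_iff.1 (hmin.2 ⟨Ideal.isPrime_bot, le_rfl⟩ bot_le))
    exact le_antisymm (Order.le_of_lt_add_one (lt_of_lt_of_le h2 (le_of_eq (by rfl)))) (Order.one_le_iff_ne_zero.2 h3)

/-- The bad points in a set are finite once every curve is singular in finitely many of them. -/
theorem finite_bad (T : Set Z) (hsing : ∀ ξ ∈ dimOne K,
      {w | w ∈ T ∧ ξ ⤳ w ∧ ringKrullDim (Z.presheaf.stalk w) = 2 ∧ ¬ RegAt ξ w}.Finite) :
    (badSet K ∩ T).Finite := by
  refine ((finite_nonprincipal hZ hK).union ((finite_pairs hZ hK).union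
    ((finite_dimOne hZ hK).biUnion hsing))).subset ?_
  rintro w ⟨hw, hwT⟩
  haveI := hZ.regular w
  have hd := dim_of_bad hZ hK hw
  by_cases hp : (sI K w).IsPrincipal
  · refine Or.inr ?_
    rcases snc_cases hd (fun h => hw (good_of_snc hd hp (PointBlow.sI_ne_bot hK w) h)) with
      ⟨q, hq, q', hq', hne⟩ | ⟨q, hq, hsingq⟩
    · obtain ⟨ξ, h, hξ, rfl⟩ := exists_point hZ hK hd hq
      obtain ⟨ξ', h', hξ', rfl⟩ := exists_point hZ hK hd hq'
      exact Or.inl ⟨ξ, hξ, ξ', hξ', fun e => hne (by subst e; rfl), h, h'⟩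
    · obtain ⟨ξ, h, hξ, rfl⟩ := exists_point hZ hK hd hq
      refine Or.inr ?_
      simp only [Set.mem_iUnion]
      exact ⟨ξ, hξ, hwT, h, hd, fun ⟨_, a, b, hab, he⟩ => hsingq a b hab he⟩
  · exact Or.inl hp

end Groth.Agent.Snc
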