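import Mathlib
import Groth.Agent.Snc.Geom
import Groth.Agent.CurveRes.Basic
import Groth.Agent.N12Aux.Basic
import Groth.Agent.QCoh.Devissage

/-!
# Curves with finite normalization on the initial surface
-/

set_option autoImplicit false
set_option linter.style.haveILetI false
set_option linter.unusedSectionVars false
set_option backward.isDefEq.respectTransparency false
set_option backward.isDefEq.respectTransparency.types false
set_option maxHeartbeats 800000

universe u

open CategoryTheory CategoryTheory.Limits AlgebraicGeometry TopologicalSpace IsLocalRing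
open Groth.Agent.H23.StalkIdeal
open Groth.Agent.CDiv6 (primeOf mem_primeOf)

noncomputable section

namespace Groth.Agent.Snc

variable {X : Scheme.{u}}

/-- The reduced curve through a point. -/
abbrev curveIdeal (ξ : X) : X.IdealSheafData := Scheme.IdealSheafData.vanishingIdeal (Closeds.closure {ξ})

theorem range_curve (ξ : X) : Set.range (curveIdeal ξ).subschemeι = closure {ξ} :=
  H23.RedSub.range_vanishingIdeal _

/-- Every curve in the support of the ideal has finite normalization. -/
def FinCurves (I : X.IdealSheafData) : Prop :=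
  ∀ (J : X.IdealSheafData) [IsIntegral J.subscheme]
    [QuasiCompact (J.subscheme.fromSpecStalk (genericPoint ↥J.subscheme))]
    [QuasiSeparated (J.subscheme.fromSpecStalk (genericPoint ↥J.subscheme))],
    (J.support : Set X) ⊆ I.support → topologicalKrullDim ↥J.subscheme = 1 →
      IsFinite (Curv2.normalizationι J.subscheme)

variable (hX : Surf X) {I : X.IdealSheafData}
include hX

theorem dim_curve {ξ : X} (hξ : Order.coheight ξ = 1) {w : X} (hw : ξ ⤳ w) (hne : w ≠ ξ) :
    haveI := QCoh.isIntegral_closure_point ξ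
    topologicalKrullDim ↥(curveIdeal ξ).subscheme = 1 := by
  haveI := QCoh.isIntegral_closure_point ξ
  set C := (curveIdeal ξ).subscheme
  set ι := (curveIdeal ξ).subschemeι
  show Order.krullDim (IrreducibleCloseds C) = 1
  rw [Order.krullDim_eq_of_orderIso (irreducibleSetEquivPoints (α := ↥C))]
  have hle : Order.krullDim C ≤ 1 := by
    rw [Order.krullDim_le_one_iff]
    intro c
    by_cases hc : ι c = ξ
    · refine Or.inr fun d hd => ?_
      have h1 : ι d ⤳ ξ := ((show d ⤳ c from hd).map ι.continuous).trans (specializes_of_eq hc)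
      have h2 : ξ ⤳ ι d := specializes_iff_mem_closure.2 (range_curve ξ ▸ Set.mem_range_self d)
      rw [show d = c from ι.isClosedEmbedding.injective ((h1.antisymm h2).eq.trans hc.symm)]
    · refine Or.inl fun d hd => ?_
      have h2 : ξ ⤳ ι c := specializes_iff_mem_closure.2 (range_curve ξ ▸ Set.mem_range_self c)
      have hcl := SurfSeq.closed_two hX.dim (eq_two_of_lt hX hξ h2 hc)
      have h3 : ι d ∈ ({ι c} : Set X) := by
        rw [← hcl.closure_eq]
        exact specializes_iff_mem_closure.1 ((show c ⤳ d from hd).map ι.continuous)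
      rw [show d = c from ι.isClosedEmbedding.injective h3]
  refine le_antisymm hle ?_
  obtain ⟨c, hc⟩ : w ∈ Set.range ι := range_curve ξ ▸ specializes_iff_mem_closure.1 hw
  obtain ⟨g, hg⟩ : ξ ∈ Set.range ι := range_curve ξ ▸ subset_closure rfl
  have hlt : c < g := lt_of_le_of_ne (show g ⤳ c from ι.isClosedEmbedding.isInducing.specializes_iff.1 ((specializes_of_eq hg).trans (hw.trans (specializes_of_eq hc.symm))))
    fun e => hne (by rw [← hc, e, hg])
  exact le_trans (show (1 : WithBot ℕ∞) ≤ (Order.coheight c : WithBot ℕ∞) from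
    WithBot.coe_le_coe.2 (le_add_self.trans (Order.coheight_add_one_le hlt))) (Order.coheight_le_krullDim c)

variable [IsIntegral X]

theorem ker_curve {ξ : X} (hξ : Order.coheight ξ = 1) (c : (curveIdeal ξ).subscheme)
    (hd : ringKrullDim (X.presheaf.stalk ((curveIdeal ξ).subschemeι c)) = 2) (h : ξ ⤳ (curveIdeal ξ).subschemeι c) :
    RingHom.ker ((curveIdeal ξ).subschemeι.stalkMap c).hom = (primeOf h).asIdeal := by
  haveI := QCoh.isIntegral_closure_point ξ
  haveI := hX.regular ((curveIdeal ξ).subschemeι c)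
  haveI hp : (RingHom.ker ((curveIdeal ξ).subschemeι.stalkMap c).hom).IsPrime := RingHom.ker_isPrime _
  refine eq_of_le hd hp ?_ (primeOf h).2 ?_ ?_
  · rw [PointBlow.ker_stalkMap]
    refine PointBlow.sI_ne_bot (fun e => ?_) _
    have hmem : genericPoint X ∈ Set.range (curveIdeal ξ).subschemeι := by
      rw [Scheme.IdealSheafData.range_subschemeι, e, Scheme.IdealSheafData.support_bot]
      trivial
    rw [range_curve] at hmem
    have he : ξ = genericPoint X := ((specializes_iff_mem_closure.2 hmem).antisymm (genericPoint_specializes ξ)).eq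
    have h0 : Order.coheight ξ = 0 := Order.coheight_eq_zero.2 fun v _ => show v ≤ ξ from he ▸ genericPoint_specializes v
    rw [h0] at hξ
    exact absurd hξ (by decide)
  · intro e
    have h1 := CDiv6.height_primeOf h
    rw [e, height_max hd, hξ] at h1
    exact absurd h1 (by decide)
  · intro a ha
    rw [PointBlow.ker_stalkMap] at ha
    refine (mem_primeOf h a).2 fun hu => ?_
    have hsupp : ξ ∈ ((curveIdeal ξ).support : Set X) := by
      rw [← Scheme.IdealSheafData.range_subschemeι, range_curve]
      exact subset_closure rfl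
    refine (PointBlow.mem_support_iff _ ξ).1 hsupp ?_
    rw [sI_spec _ h]
    exact Ideal.eq_top_of_isUnit_mem _ (Ideal.mem_map_of_mem _ ha) hu

theorem finite_curve (hZ : FinCurves I) {ξ : X} (hξ : ξ ∈ dimOne I) {w : X} (hw : ξ ⤳ w) (hne : w ≠ ξ) :
    haveI := QCoh.isIntegral_closure_point ξ
    ∀ [QuasiCompact ((curveIdeal ξ).subscheme.fromSpecStalk (genericPoint ↥(curveIdeal ξ).subscheme))]
      [QuasiSeparated ((curveIdeal ξ).subscheme.fromSpecStalk (genericPoint ↥(curveIdeal ξ).subscheme))],
      IsFinite (Curv2.normalizationι (curveIdeal ξ).subscheme) := by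
  haveI := QCoh.isIntegral_closure_point ξ
  intro _ _
  refine hZ _ ?_ (dim_curve hX hξ.2 hw hne)
  rw [← Scheme.IdealSheafData.range_subschemeι, range_curve]
  exact closure_minimal (Set.singleton_subset_iff.2 hξ.1) I.support.isClosed

theorem finite_singular (hZ : FinCurves I) {ξ : X} (hξ : ξ ∈ dimOne I) :
    {w | w ∈ Set.univ ∧ ξ ⤳ w ∧ ringKrullDim (X.presheaf.stalk w) = 2 ∧ ¬ RegAt ξ w}.Finite := by
  haveI := hX.noeth
  haveI := QCoh.isIntegral_closure_point ξ
  rcases {w | w ∈ Set.univ ∧ ξ ⤳ w ∧ ringKrullDim (X.presheaf.stalk w) = 2 ∧ ¬ RegAt ξ w}.eq_empty_or_nonempty with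
    he | ⟨w₀, -, hw₀, hd₀, -⟩
  · rw [he]; exact Set.finite_empty
  have hne : w₀ ≠ ξ := fun e => absurd ((coheight_eq_two hX hd₀).symm.trans (e ▸ hξ.2)) (by decide)
  set J := curveIdeal ξ
  haveI : IsLocallyNoetherian J.subscheme := LocallyOfFiniteType.isLocallyNoetherian J.subschemeι
  haveI : CompactSpace J.subscheme := QuasiCompact.compactSpace_of_compactSpace J.subschemeι
  haveI : IsNoetherian J.subscheme := {}
  haveI := finite_curve hX hZ hξ hw₀ hne
  have hdim := dim_curve hX hξ.2 hw₀ hne
  obtain ⟨U, hU, hiso⟩ := CurveRes.exists_isIso_of_isFinite J.subscheme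
  haveI := hiso
  have hfin : {c : J.subscheme | c ∉ U}.Finite := by
    refine PointBlow.finite_of_closed_points U.isOpen.isClosed_compl fun c hc => ?_
    have h2 : ξ ⤳ J.subschemeι c := specializes_iff_mem_closure.2 (range_curve ξ ▸ Set.mem_range_self c)
    have hcg : J.subschemeι c ≠ ξ := fun e => hc (by
      obtain ⟨v, hv⟩ := hU.nonempty
      refine Specializes.mem_open (J.subschemeι.isClosedEmbedding.isInducing.specializes_iff.1 ?_) U.isOpen hv
      rw [e]
      exact specializes_iff_mem_closure.2 (range_curve ξ ▸ Set.mem_range_self v))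
    have h3 := (SurfSeq.closed_two hX.dim (eq_two_of_lt hX hξ.2 h2 hcg)).preimage J.subschemeι.continuous
    convert h3 using 1
    ext d
    exact ⟨fun h => by rw [Set.mem_singleton_iff.1 h]; rfl, fun h => J.subschemeι.isClosedEmbedding.injective h⟩
  refine (hfin.image J.subschemeι).subset ?_
  rintro w ⟨-, hw, hd, hsing⟩
  obtain ⟨c, rfl⟩ : w ∈ Set.range J.subschemeι := range_curve ξ ▸ specializes_iff_mem_closure.1 hw
  refine ⟨c, fun hcU => hsing ⟨hw, ?_⟩, rfl⟩
  haveI : IsOpenImmersion ((Curv2.normalizationι J.subscheme ⁻¹ᵁ U).ι ≫ Curv2.normalizationι J.subscheme) := by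
    rw [← morphismRestrict_ι]; infer_instance
  obtain ⟨y, rfl⟩ : ∃ y, Curv2.normalizationι J.subscheme y = c :=
    ⟨((inv (Curv2.normalizationι J.subscheme ∣_ U)) ⟨c, hcU⟩).1, by
      refine (morphismRestrict_base_coe _ U _).symm.trans ?_; erw [← Scheme.Hom.comp_apply, IsIso.inv_hom_id]; rfl⟩
  haveI := PurBir.isIso_stalkMap_of_mem (Curv2.normalizationι J.subscheme)
    (W := Curv2.normalizationι J.subscheme ⁻¹ᵁ U) hcU
  haveI := CurveRes.regular_normalization J.subscheme hdim.le y
  haveI : IsRegularLocalRing (J.subscheme.presheaf.stalk (Curv2.normalizationι J.subscheme y)) :=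
    IsRegularLocalRing.of_ringEquiv
      (asIso ((Curv2.normalizationι J.subscheme).stalkMap y)).commRingCatIsoToRingEquiv.symm
  haveI := hX.regular (J.subschemeι (Curv2.normalizationι J.subscheme y))
  have hk := ker_curve hX hξ.2 _ hd hw
  exact exists_system_of_surjective hd (primeOf hw).2
    (fun e => by
      have h1 := CDiv6.height_primeOf hw
      rw [e, Ideal.height_bot, hξ.2] at h1
      exact absurd h1 (by decide))
    (fun e => by
      have h1 := CDiv6.height_primeOf hw
      rw [e, height_max hd, hξ.2] at h1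
      exact absurd h1 (by decide))
    ((SchTop.ringKrullDim_stalk_le _).trans hdim.le) _ (J.subschemeι.stalkMap_surjective _) hk

theorem isN1_quot (hZ : FinCurves I) (hI : I ≠ ⊥) {w : X} (hd : ringKrullDim (X.presheaf.stalk w) = 2)
    {q : Ideal (X.presheaf.stalk w)} (hq : haveI := hX.regular w; q ∈ primesOver (sI I w))
    {S : Type u} [CommRing S] [IsDomain S] (f : X.presheaf.stalk w →+* S) (hf : Function.Surjective f)
    (hk : RingHom.ker f = q) : CAlg.IsN1 S := by
  haveI := hX.noeth
  obtain ⟨ξ, h, hξ, rfl⟩ := exists_point hX hI hd hq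
  haveI := QCoh.isIntegral_closure_point ξ
  have hne : w ≠ ξ := fun e => absurd ((coheight_eq_two hX hd).symm.trans (e ▸ hξ.2)) (by decide)
  set J := curveIdeal ξ
  haveI : IsLocallyNoetherian J.subscheme := LocallyOfFiniteType.isLocallyNoetherian J.subschemeι
  haveI : CompactSpace J.subscheme := QuasiCompact.compactSpace_of_compactSpace J.subschemeι
  haveI : IsNoetherian J.subscheme := {}
  haveI := finite_curve hX hZ hξ h hne
  obtain ⟨c, rfl⟩ : w ∈ Set.range J.subschemeι := range_curve ξ ▸ specializes_iff_mem_closure.1 h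
  obtain ⟨_, ⟨U, hU, rfl⟩, hcU, -⟩ :=
    J.subscheme.isBasis_affineOpens.exists_subset_of_mem_open (Set.mem_univ c) isOpen_univ
  haveI : Nonempty U := ⟨⟨c, hcU⟩⟩
  have hN : CAlg.IsN1 Γ(J.subscheme, U) :=
    CurveRes.finite_integralClosure_of_isFinite J.subscheme hU ⟨c, hcU⟩ (FractionRing Γ(J.subscheme, U))
  letI := J.subscheme.presheaf.algebra_section_stalk (U := U) ⟨c, hcU⟩
  haveI := hU.isLocalization_stalk ⟨c, hcU⟩
  have hk' := ker_curve hX hξ.2 c hd h
  let e : J.subscheme.presheaf.stalk c ≃+* S :=
    (RingHom.quotientKerEquivOfSurjective (J.subschemeι.stalkMap_surjective c)).symm.trans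
      ((Ideal.quotEquivOfEq (hk'.trans hk.symm)).trans (RingHom.quotientKerEquivOfSurjective hf))
  letI : Algebra Γ(J.subscheme, U) S :=
    (e.toRingHom.comp (algebraMap Γ(J.subscheme, U) (J.subscheme.presheaf.stalk c))).toAlgebra
  haveI : IsLocalization (hU.primeIdealOf ⟨c, hcU⟩).asIdeal.primeCompl S :=
    IsLocalization.isLocalization_of_algEquiv _
      (AlgEquiv.ofRingEquiv (f := e) (fun _ => rfl) : J.subscheme.presheaf.stalk c ≃ₐ[Γ(J.subscheme, U)] S)
  exact N12Aux.isN1_of_isLocalization hN (hU.primeIdealOf ⟨c, hcU⟩).asIdeal.primeCompl S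

end Groth.Agent.Snc
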