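import Mathlib
import Groth.Agent.Snc.Base
import Groth.Agent.Snc.Round
import Groth.Agent.NormSeq.Main

/-!
# Normal crossings by point blow-ups
-/

set_option autoImplicit false
set_option linter.style.haveILetI false
set_option linter.unusedSectionVars false
set_option backward.isDefEq.respectTransparency false
set_option backward.isDefEq.respectTransparency.types false
set_option maxHeartbeats 800000

universe u

open CategoryTheory CategoryTheory.Limits AlgebraicGeometry TopologicalSpace IsLocalRing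
open Groth.Agent.H23.StalkIdeal
open Groth.Agent.PointBlow (pt)
open Groth.Agent.CDiv6 (primeOf mem_primeOf)
open Groth.Agent.NormSeq (Model locRing)

noncomputable section

namespace Groth.Agent.Snc

variable {X : Scheme.{u}} [IsIntegral X]

/-- The local ring of a model point in the function field. -/
def eK (M : Model X) (w : M.Z) : M.Z.presheaf.stalk w ≃+* locRing M w :=
  RingEquiv.ofBijective (M.toKHom w).hom.rangeRestrict
    ⟨fun _ _ hab => M.toK_injective w (congrArg Subtype.val hab), (M.toKHom w).hom.rangeRestrict_surjective⟩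

theorem comap_ne_bot (M : Model X) {I : X.IdealSheafData} (hI : I ≠ ⊥) : I.comap M.G ≠ ⊥ := by
  intro h
  haveI := M.bir
  have h1 := congrArg (fun J => sI J (genericPoint M.Z)) h
  change sI _ _ = sI _ _ at h1
  rw [sI_comap, show sI (⊥ : M.Z.IdealSheafData) (genericPoint M.Z) = ⊥ by
    rw [sI, Scheme.IdealSheafData.comap_bot, tI, Scheme.IdealSheafData.ideal_bot, Pi.bot_apply, Ideal.map_bot],
    Ideal.map_eq_bot_iff_of_injective (ConcreteCategory.bijective_of_isIso (M.G.stalkMap (genericPoint M.Z))).1] at h1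
  exact PointBlow.sI_ne_bot hI _ h1

section Step

variable (M : Model X) {Z' : Scheme.{u}} [IsIntegral Z'] (h : Z' ⟶ M.Z) (hgen : h (genericPoint Z') = genericPoint M.Z)
  (hbir : IsIso (h.stalkMap (genericPoint Z')))

theorem locRing_le (w : Z') (v : M.Z) (hv : h w = v) :
    locRing M v ≤ locRing (M.comp h hgen hbir) w := by
  subst hv
  rintro x ⟨a, rfl⟩
  exact ⟨h.stalkMap w a, congr($(M.comp_toK h hgen hbir w) a)⟩

theorem map_eK (w : Z') (v : M.Z) (hv : h w = v) (K : M.Z.IdealSheafData) :
    ((sI K v).map (eK M v).toRingHom).map (Subring.inclusion (locRing_le M h hgen hbir w v hv)) =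
      (sI (K.comap h) w).map (eK (M.comp h hgen hbir) w).toRingHom := by
  subst hv
  rw [sI_comap, Ideal.map_map]
  refine Eq.trans ?_ (Ideal.map_map _ _).symm
  congr 1
  refine RingHom.ext fun a => Subtype.ext ?_
  exact (congr($(M.comp_toK h hgen hbir w) a)).symm

end Step

/-- A stage: a regular model reached by contractions with finitely many bad points. -/
structure St (I : X.IdealSheafData) where
  M : Model X
  surf : Surf M.Z
  seq : Models.IsContractionSeq M.G
  fin : (badSet (I.comap M.G)).Finite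

variable {I : X.IdealSheafData} (hI : I ≠ ⊥)
include hI

theorem exists_next (S : St I) : ∃ (Z' : Scheme.{u}) (h : Z' ⟶ S.M.Z) (_ : IsIntegral Z')
    (_ : Surf Z') (_ : h (genericPoint Z') = genericPoint S.M.Z)
    (_ : IsIso (h.stalkMap (genericPoint Z'))) (_ : Models.IsContractionSeq (h ≫ S.M.G))
    (_ : (badSet (I.comap (h ≫ S.M.G))).Finite),
    (∀ w, w ∈ badSet (I.comap (h ≫ S.M.G)) → h w ∈ badSet (I.comap S.M.G)) ∧
    ∀ t, t ∈ badSet (I.comap S.M.G) → ∀ ht : IsClosed ({t} : Set S.M.Z),
      BlowUp.IsEffCartierIdeal ((pt ht).comap h) ∧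
        ∀ w, h w = t → ∀ γ, sI ((pt ht).comap h) w = Ideal.span {γ} →
          ∃ a, Ideal.span {γ, a} = maximalIdeal (Z'.presheaf.stalk w) := by
  classical
  have hK := comap_ne_bot S.M hI
  have hs : ∀ t ∈ S.fin.toFinset, IsClosed ({t} : Set S.M.Z) ∧ ringKrullDim (S.M.Z.presheaf.stalk t) = 2 := fun t ht =>
    have hd := dim_of_bad S.surf hK (S.fin.mem_toFinset.1 ht)
    ⟨SurfSeq.closed_two S.surf.dim hd, hd⟩
  haveI := S.surf.noeth
  obtain ⟨Z', h, hint, hZ', hP, hseq, hbir, hoff, hcar⟩ := exists_round S.surf S.fin.toFinset hs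
  haveI := hint
  haveI := hP
  haveI := hZ'.noeth
  have hgen := SurfSeq.map_generic h hbir
  have hK' : I.comap (h ≫ S.M.G) ≠ ⊥ := comap_ne_bot (S.M.comp h hgen hbir) hI
  have hdown : ∀ w, w ∈ badSet (I.comap (h ≫ S.M.G)) → h w ∈ badSet (I.comap S.M.G) := by
    intro w hw
    by_contra hgood
    haveI := hoff w fun hmem => hgood (S.fin.mem_toFinset.1 hmem)
    refine hw ?_
    rw [Scheme.IdealSheafData.comap_comp, sI_comap]
    exact (not_not.1 hgood).map (asIso (h.stalkMap w)).commRingCatIsoToRingEquiv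
  have hT : IsClosed (h ⁻¹' (S.fin.toFinset : Set S.M.Z)) := by
    refine IsClosed.preimage h.continuous ?_
    rw [← Set.biUnion_of_singleton (S.fin.toFinset : Set S.M.Z)]
    exact S.fin.toFinset.finite_toSet.isClosed_biUnion fun t ht => (hs t ht).1
  have hfin : (badSet (I.comap (h ≫ S.M.G))).Finite := by
    refine (finite_bad hZ' hK' (h ⁻¹' (S.fin.toFinset : Set S.M.Z)) fun ξ hξ => ?_).subset
      fun w hw => ⟨hw, S.fin.mem_toFinset.2 (hdown w hw)⟩
    by_cases hmem : h ξ ∈ S.fin.toFinset
    · refine Set.finite_empty.subset ?_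
      rintro w ⟨-, hξw, hd, hnreg⟩
      refine hnreg ⟨hξw, ?_⟩
      have hwt : h w = h ξ := by
        have h2 := specializes_iff_mem_closure.1 (hξw.map h.continuous)
        rw [(hs _ hmem).1.closure_eq] at h2
        exact h2
      obtain ⟨hC, hpair⟩ := hcar _ hmem (hs _ hmem).1
      obtain ⟨γ, -, hγ⟩ := H23.StalkIdeal.exists_gen hC w
      obtain ⟨a, ha⟩ := hpair w hwt γ hγ
      refine ⟨γ, a, ha, ?_⟩
      haveI := hZ'.regular w
      have hpr := prime_of_system hd ha
      refine (eq_of_le hd ((Ideal.span_singleton_prime hpr.ne_zero).2 hpr)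
        (fun e => hpr.ne_zero (Ideal.span_singleton_eq_bot.1 e)) (primeOf hξw).2 (fun e => ?_) ?_).symm
      · have h1 := CDiv6.height_primeOf hξw
        rw [e, height_max hd, hξ.2] at h1
        exact absurd h1 (by decide)
      · refine Ideal.span_le.2 (Set.singleton_subset_iff.2 ((mem_primeOf hξw γ).2 fun hu => ?_))
        refine (PointBlow.mem_support_iff _ ξ).1 ((PointBlow.mem_support_exc (hs _ hmem).1 ξ).2 rfl) ?_
        rw [sI_spec _ hξw, hγ, Ideal.map_span, Set.image_singleton]
        exact Ideal.span_singleton_eq_top.2 hu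
    · exact (finite_strict hZ' hξ.2 hT hmem).subset fun w hw => ⟨hw.2.1, hw.1⟩
  exact ⟨Z', h, hint, hZ', hgen, hbir, hseq _ _ S.seq, hfin, hdown,
    fun t ht htc => hcar t (S.fin.mem_toFinset.2 ht) htc⟩

theorem exists_stage [IsNoetherian X] (hX : Surf X) (hZ : FinCurves I) :
    ∃ S : St I, badSet (I.comap S.M.G) = ∅ := by
  classical
  by_contra! hne
  choose Z' h hint hsurf hgen hbir hseq hfin hdown hcar using exists_next (I := I) hI
  let next : St I → St I := fun S =>
    haveI := hint S
    { M := S.M.comp (h S) (hgen S) (hbir S)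
      surf := hsurf S
      seq := hseq S
      fin := hfin S }
  let M₀ : Model X :=
    { Z := X
      G := 𝟙 X
      gen := rfl
      bir := inferInstance }
  let S₀ : St I :=
    { M := M₀
      surf := hX
      seq := Models.IsContractionSeq.iso (Iso.refl X)
      fin := by
        refine ((finite_bad hX hI Set.univ fun ξ hξ => finite_singular hX hZ hξ)).subset ?_
        intro w hw
        refine ⟨?_, trivial⟩
        convert hw
        exact (Scheme.IdealSheafData.comap_id I).symm }
  let S : ℕ → St I := fun n => Nat.rec S₀ (fun _ T => next T) n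
  let α : ℕ → Type u := fun n => {w : (S n).M.Z // w ∈ badSet (I.comap (S n).M.G)}
  haveI : ∀ n, Finite (α n) := fun n => Set.finite_coe_iff.2 (S n).fin
  haveI : ∀ n, Nonempty (α n) := fun n => (hne (S n)).to_subtype
  obtain ⟨ω, hω⟩ := NormSeq.exists_chain (α := α) fun n w => ⟨h (S n) w.1, hdown (S n) w.1 w.2⟩
  let w : ∀ n, (S n).M.Z := fun n => (ω n).1
  have hw : ∀ n, h (S n) (w (n + 1)) = w n := fun n => congrArg Subtype.val (hω n)
  have hd : ∀ n, ringKrullDim ((S n).M.Z.presheaf.stalk (w n)) = 2 := fun n =>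
    dim_of_bad (S n).surf (comap_ne_bot (S n).M hI) (ω n).2
  have hcl : ∀ n, IsClosed ({w n} : Set (S n).M.Z) := fun n => SurfSeq.closed_two (S n).surf.dim (hd n)
  have hreg : ∀ n, IsRegularLocalRing (locRing (S n).M (w n)) := fun n =>
    haveI := (S n).surf.regular (w n)
    IsRegularLocalRing.of_ringEquiv (eK (S n).M (w n))
  have hle : ∀ n, locRing (S n).M (w n) ≤ locRing (S (n + 1)).M (w (n + 1)) := fun n =>
    haveI := hint (S n)
    locRing_le (S n).M (h (S n)) (hgen (S n)) (hbir (S n)) (w (n + 1)) (w n) (hw n)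
  have hγ : ∀ n, ∃ γ, sI ((pt (hcl n)).comap (h (S n))) (w (n + 1)) = Ideal.span {γ} := fun n => by
    obtain ⟨γ, -, hγ⟩ := H23.StalkIdeal.exists_gen (hcar (S n) (w n) (ω n).2 (hcl n)).1 (w (n + 1))
    exact ⟨γ, hγ⟩
  choose γ hγ using hγ
  let T : Tower X.functionField :=
    { R := fun n => locRing (S n).M (w n)
      mono := monotone_nat_of_le_succ hle
      regular := hreg
      dim := fun n => (ringKrullDim_eq_of_ringEquiv (eK (S n).M (w n))).symm.trans (hd n)
      frac := fun n x => NormSeq.toK_fraction (S n).M (w n) x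
      γ := fun n => eK (S (n + 1)).M (w (n + 1)) (γ n)
      map_max := fun n => by
        haveI := hint (S n)
        haveI := hreg n
        rw [← IsLocalRing.map_ringEquiv_maximalIdeal (eK (S n).M (w n)), ← NormSeq.sI_pt (hcl n)]
        refine (map_eK (S n).M (h (S n)) (hgen (S n)) (hbir (S n)) (w (n + 1)) (w n) (hw n) (pt (hcl n))).trans ?_
        rw [hγ n, Ideal.map_span, Set.image_singleton]
        rfl
      exists_pair := fun n => by
        haveI := hint (S n)
        haveI := hreg (n + 1)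
        obtain ⟨a, ha⟩ := (hcar (S n) (w n) (ω n).2 (hcl n)).2 (w (n + 1)) (hw n) (γ n) (hγ n)
        refine ⟨eK (S (n + 1)).M (w (n + 1)) a, ?_⟩
        rw [← IsLocalRing.map_ringEquiv_maximalIdeal (eK (S (n + 1)).M (w (n + 1)))]
        erw [← ha]
        rw [Ideal.map_span, Set.image_pair]
        }
  let J : Ideal (T.R 0) := (sI (I.comap (S 0).M.G) (w 0)).map (eK (S 0).M (w 0)).toRingHom
  have hJ : J ≠ ⊥ := fun e => PointBlow.sI_ne_bot (comap_ne_bot (S 0).M hI) (w 0)
    ((Ideal.map_eq_bot_iff_of_injective (eK (S 0).M (w 0)).injective).1 e)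
  have hideal : ∀ n, T.ideal J n = (sI (I.comap (S n).M.G) (w n)).map (eK (S n).M (w n)).toRingHom := by
    intro n
    induction n with
    | zero => exact Ideal.map_id J
    | succ n ih =>
      haveI := hint (S n)
      rw [← T.ideal_map J (Nat.le_add_right n 1), ih]
      refine (map_eK (S n).M (h (S n)) (hgen (S n)) (hbir (S n)) (w (n + 1)) (w n) (hw n) _).trans ?_
      rw [← Scheme.IdealSheafData.comap_comp]
      rfl
  obtain ⟨N, hprinc, hsnc⟩ := T.exists_snc J hJ fun q hq hJq => by
    haveI := hq.1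
    haveI := hreg 0
    refine isN1_quot hX hZ hI (w := w 0) (hd 0) (q := q.comap (eK (S 0).M (w 0)).toRingHom)
      ⟨Ideal.comap_isPrime _ q, fun e => hq.2.1 ?_, fun e => hq.2.2 ?_, ?_⟩
      ((Ideal.Quotient.mk q).comp (eK (S 0).M (w 0)).toRingHom)
      (Ideal.Quotient.mk_surjective.comp (eK (S 0).M (w 0)).surjective) ?_
    · rw [← Ideal.map_comap_of_surjective (eK (S 0).M (w 0)).toRingHom (eK (S 0).M (w 0)).surjective q, e,
        Ideal.map_bot]
    · rw [← Ideal.map_comap_of_surjective (eK (S 0).M (w 0)).toRingHom (eK (S 0).M (w 0)).surjective q, e]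
      exact IsLocalRing.map_ringEquiv_maximalIdeal (eK (S 0).M (w 0))
    · refine Ideal.map_le_iff_le_comap.1 (le_trans (le_of_eq ?_) hJq)
      show _ = (sI (I.comap (𝟙 X)) (w 0)).map _
      rw [Scheme.IdealSheafData.comap_id]
    · rw [← RingHom.comap_ker, Ideal.mk_ker]
  haveI := hreg N
  haveI := (S N).surf.regular (w N)
  obtain ⟨x, y, hxy, hS⟩ := hsnc
  have hgood : Good (T.ideal J N) := good_of_snc (T.dim N) hprinc (T.ideal_ne_bot J hJ N)
    ⟨x, y, hxy, fun q hq => hS q ⟨⟨hq.1, hq.2.1, hq.2.2.1⟩, hq.2.2.2⟩⟩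
  refine (ω N).2 ?_
  have h1 := hgood.map (eK (S N).M (w N)).symm
  rw [hideal N] at h1
  erw [Ideal.map_map] at h1
  rwa [show (eK (S N).M (w N)).symm.toRingHom.comp (eK (S N).M (w N)).toRingHom = RingHom.id _ from
    RingHom.ext fun b => (eK (S N).M (w N)).symm_apply_apply b, Ideal.map_id] at h1

end Groth.Agent.Snc
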